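import Cfsg.Agent.Lib.Char.FiveForms.Layers

/-!
# Local symmetric algebras with five trace forms

Such an algebra has dimension at most ten. With `r` generators there are at most three layers above the unit for
`r = 3` and at most four for `r = 2`; one generator gives a commutative algebra.
-/

set_option autoImplicit false
set_option linter.unusedSectionVars false
set_option maxHeartbeats 1600000

namespace Cfsg.Agent.Char.FiveForms

open Module
open LocalSymm (Corner)

variable {k R : Type*} [Field k] [Ring R] [Algebra k R] {f : R} {A N : Submodule k R} {τ : R →ₗ[k] k} {L : ℕ}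
  {C : Submodule k R}

/-- The commutators of the radical. -/
def W0 (N : Submodule k R) : Submodule k R :=
  Submodule.span k {x : R | ∃ y ∈ N, ∃ z ∈ N, y * z - z * y = x}

/-- The commutators of the radical with its square. -/
def D (N : Submodule k R) (n : ℕ) : Submodule k R :=
  Submodule.span k {x : R | ∃ y ∈ N, ∃ z ∈ N ^ n, y * z - z * y = x}

theorem W0_le_sq : W0 N ≤ N ^ 2 := by
  refine Submodule.span_le.mpr ?_
  rintro _ ⟨y, hy, z, hz, rfl⟩
  rw [pow_two]
  exact sub_mem (Submodule.mul_mem_mul hy hz) (Submodule.mul_mem_mul hz hy)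

theorem comm_mem_W0 {y z : R} (hy : y ∈ N) (hz : z ∈ N) : y * z - z * y ∈ W0 N :=
  Submodule.subset_span ⟨y, hy, z, hz, rfl⟩

theorem comm_mem_D {n : ℕ} {y z : R} (hy : y ∈ N) (hz : z ∈ N ^ n) : y * z - z * y ∈ D N n :=
  Submodule.subset_span ⟨y, hy, z, hz, rfl⟩

theorem comm_mem_D' {n : ℕ} {y z : R} (hy : y ∈ N) (hz : z ∈ N ^ n) : z * y - y * z ∈ D N n := by
  rw [← neg_sub]; exact neg_mem (comm_mem_D hy hz)

theorem D_le (n : ℕ) : D N n ≤ N ^ (n + 1) := by
  refine Submodule.span_le.mpr ?_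
  rintro _ ⟨y, hy, z, hz, rfl⟩
  exact sub_mem (pow_mul_mem (mem_one_pow hy) hz (by omega)) (pow_mul_mem hz (mem_one_pow hy) rfl)

theorem tau_W0 (h : Corner f A N τ) {x : R} (hx : x ∈ W0 N) : τ x = 0 := by
  have : W0 N ≤ LinearMap.ker τ := by
    refine Submodule.span_le.mpr ?_
    rintro _ ⟨y, -, z, -, rfl⟩
    simp [h.symm y z]
  exact this hx

theorem tau_ne_zero (h : Corner f A N τ) (htop : N ^ (L + 1) = ⊥) (hL : 1 ≤ L) {v : R} (hv : v ∈ N ^ L)
    (hv0 : v ≠ 0) : τ v ≠ 0 := by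
  have hvA : v ∈ A := h.le (by
    obtain ⟨l, rfl⟩ : ∃ l, L = l + 1 := ⟨L - 1, by omega⟩
    exact h.pow_le_radical l hv)
  obtain ⟨b, hb, hne⟩ := h.nondeg v hvA hv0
  obtain ⟨c, hc⟩ := h.decomp b hb
  have hz : v * (b - c • f) = 0 := by
    have := pow_mul_mem hv (mem_one_pow hc) rfl
    rwa [htop, Submodule.mem_bot] at this
  rw [mul_sub, sub_eq_zero, mul_smul_comm, h.right v hvA] at hz
  intro hv'
  exact hne (by rw [hz, map_smul, hv', smul_zero])

theorem finrank_top [FiniteDimensional k R] (h : Corner f A N τ) (htop : N ^ (L + 1) = ⊥) (hL : 1 ≤ L) :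
    finrank k ↥(N ^ L) ≤ 1 := by
  have hinj : Function.Injective (τ.comp (N ^ L).subtype) := by
    refine (injective_iff_map_eq_zero _).mpr ?_
    rintro ⟨v, hv⟩ hz
    by_contra hne
    exact tau_ne_zero h htop hL hv (fun e => hne (Subtype.ext e)) hz
  simpa using LinearMap.finrank_le_finrank_of_injective hinj

theorem pow_anti (h : Corner f A N τ) {i j : ℕ} (hi : 1 ≤ i) (hij : i ≤ j) : N ^ j ≤ N ^ i := by
  obtain ⟨i, rfl⟩ : ∃ l, i = l + 1 := ⟨i - 1, by omega⟩
  obtain ⟨d, rfl⟩ : ∃ d, j = i + 1 + d := ⟨j - (i + 1), by omega⟩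
  induction d with
  | zero => exact le_rfl
  | succ d ih =>
    refine le_trans ?_ (ih (by omega))
    exact (le_of_eq (by congr 1; omega)).trans (h.pow_succ_le (i + d)) |>.trans (le_of_eq (by congr 1; omega))

theorem exists_compl_in [FiniteDimensional k R] {U X : Submodule k R} (h : U ≤ X) :
    ∃ C : Submodule k R, C ≤ X ∧ C ⊓ U = ⊥ ∧ C ⊔ U = X := by
  obtain ⟨Y, hY⟩ := Submodule.exists_isCompl U
  refine ⟨X ⊓ Y, inf_le_left, ?_, ?_⟩
  · rw [inf_assoc, inf_comm Y, hY.inf_eq_bot, inf_bot_eq]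
  · rw [inf_sup_assoc_of_le Y h, sup_comm, hY.sup_eq_top, inf_top_eq]

theorem exists_graded [FiniteDimensional k R] (h : Corner f A N τ) (htop : N ^ (L + 1) = ⊥) (hne : N ^ L ≠ ⊥)
    (hL : 2 ≤ L) : ∃ C : Submodule k R, Graded f A N τ L C ∧ C ⊓ N ^ 2 = ⊥ := by
  set U : Submodule k R := N ⊓ LinearMap.ker (θ N τ (L - 1)) with hU
  obtain ⟨C, hC, hinf, hsup⟩ := exists_compl_in (inf_le_left : U ≤ N)
  obtain ⟨z, hz, hz0⟩ := (N ^ L).exists_mem_ne_zero_of_ne_bot hne
  refine ⟨C, ⟨h, htop, hC, fun u hu => ?_, fun c hc hc0 => ?_, z, hz, tau_ne_zero h htop (by omega) hz hz0⟩, ?_⟩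
  · rw [← hsup, Submodule.mem_sup] at hu
    obtain ⟨c, hc, u', hu', rfl⟩ := hu
    refine ⟨c, hc, fun z hz => ?_⟩
    rw [add_sub_cancel_left, h.symm]
    exact θ_eq_zero.mp hu'.2 z hz
  · have : c ∈ C ⊓ U := ⟨hc, hC hc, θ_eq_zero.mpr fun z hz => by rw [h.symm]; exact hc0 z hz⟩
    rwa [hinf, Submodule.mem_bot] at this
  · rw [eq_bot_iff, ← hinf]
    refine le_inf inf_le_left (le_trans inf_le_right (le_inf ((pow_anti h le_rfl (by omega)).trans_eq
      (pow_one N)) fun a ha => θ_eq_zero.mpr fun z hz => ?_))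
    have := pow_mul_mem hz ha (show L - 1 + 2 = L + 1 by omega)
    rw [htop, Submodule.mem_bot] at this
    rw [this, map_zero]

/-- The bilinear form of an element. -/
def Φ₂ (C : Submodule k R) (τ : R →ₗ[k] k) : R →ₗ[k] Bil k C where
  toFun w := LinearMap.mk₂ k (fun u v : C => τ ((u : R) * v * w))
    (fun a b v => by simp [add_mul]) (fun c a v => by simp) (fun a b v => by simp [mul_add, add_mul])
    (fun c a v => by simp)
  map_add' a b := by ext; simp [mul_add]
  map_smul' c a := by ext; simp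

@[simp] theorem Φ₂_apply (w : R) (u v : C) : Φ₂ C τ w u v = τ ((u : R) * v * w) := rfl

/-- The trilinear form of an element. -/
def Φ₃ (C : Submodule k R) (τ : R →ₗ[k] k) : R →ₗ[k] Tri k C where
  toFun w := LinearMap.mk₂ k
    (fun u v : C => (τ.comp ((LinearMap.mulRight k w).comp (LinearMap.mulLeft k ((u : R) * v)))).comp C.subtype)
    (fun a b v => by ext; simp [add_mul, mul_assoc]) (fun c a v => by ext; simp [mul_assoc])
    (fun a b v => by ext; simp [mul_add, add_mul, mul_assoc]) (fun c a v => by ext; simp [mul_assoc])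
  map_add' a b := by ext; simp [mul_add]
  map_smul' c a := by ext; simp

@[simp] theorem Φ₃_apply (w : R) (u v t : C) : Φ₃ C τ w u v t = τ ((u : R) * v * t * w) := rfl

/-- The plane or space of bilinear forms of the algebra. -/
def W₂ (N C : Submodule k R) (τ : R →ₗ[k] k) (L : ℕ) : Submodule k (Bil k C) := (N ^ (L - 2)).map (Φ₂ C τ)

/-- Its trilinear forms. -/
def U₃ (N C : Submodule k R) (τ : R →ₗ[k] k) (L : ℕ) : Submodule k (Tri k C) := (N ^ (L - 3)).map (Φ₃ C τ)

section

variable (g : Graded f A N τ L C)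
include g

/-- The components of two factors. -/
theorem expand₂ (hL : 2 ≤ L) {u v : R} (hu : u ∈ N) (hv : v ∈ N) : ∃ c d : C, ∀ w ∈ N ^ (L - 2),
    τ (u * v * w) = τ ((c : R) * d * w) := by
  obtain ⟨c, hc, hcl, -⟩ := g.exists_comp hu
  obtain ⟨d, hd, hdl, -⟩ := g.exists_comp hv
  refine ⟨⟨c, hc⟩, ⟨d, hd⟩, fun w hw => ?_⟩
  show τ (u * v * w) = τ (c * d * w)
  rw [mul_assoc u, hcl _ (pow_mul_mem (mem_one_pow hv) hw (by omega)), g.symm, mul_assoc v,
    hdl _ (pow_mul_mem hw (mem_one_pow (g.le hc)) (by omega)), ← mul_assoc, g.symm, ← mul_assoc]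

theorem θ_two_eq_zero (hL : 2 ≤ L) {w : R} (hw : w ∈ N ^ (L - 2)) (h : ∀ u v : C, τ ((u : R) * v * w) = 0) :
    θ N τ 2 w = 0 := by
  rw [θ_eq_zero]
  intro a ha
  rw [pow_two] at ha
  refine Submodule.mul_induction_on ha (fun u hu v hv => ?_) fun x y hx hy => ?_
  · obtain ⟨c, d, e⟩ := expand₂ g hL hu hv
    rw [e w hw, h]
  · rw [add_mul, map_add, hx, hy, add_zero]

/-- The components of three factors. -/
theorem expand₃ (hL : 3 ≤ L) {u v t : R} (hu : u ∈ N) (hv : v ∈ N) (ht : t ∈ N) : ∃ a b c : C,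
    ∀ w ∈ N ^ (L - 3), τ (u * v * t * w) = τ ((a : R) * b * c * w) ∧
      τ (v * t * u * w) = τ ((b : R) * c * a * w) := by
  obtain ⟨a, ha, hal, -⟩ := g.exists_comp hu
  obtain ⟨b, hb, hbl, -⟩ := g.exists_comp hv
  obtain ⟨c, hc, hcl, -⟩ := g.exists_comp ht
  refine ⟨⟨a, ha⟩, ⟨b, hb⟩, ⟨c, hc⟩, fun w hw => ?_⟩
  have key : ∀ {u v t a b c : R}, v ∈ N → t ∈ N → a ∈ C → b ∈ C →
      (∀ z ∈ N ^ (L - 1), τ (u * z) = τ (a * z)) → (∀ z ∈ N ^ (L - 1), τ (v * z) = τ (b * z)) →
      (∀ z ∈ N ^ (L - 1), τ (t * z) = τ (c * z)) → τ (u * v * t * w) = τ (a * b * c * w) := by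
    intro u v t a b c hv ht ha hb hu' hv' ht'
    have e1 : τ (u * v * t * w) = τ (a * v * t * w) := by
      rw [show u * v * t * w = u * (v * t * w) by noncomm_ring,
        hu' _ (pow_mul_mem (pow_mul_mem (mem_one_pow hv) (mem_one_pow ht) rfl) hw (by omega))]
      simp only [mul_assoc]
    have e2 : τ (a * v * t * w) = τ (a * b * t * w) := by
      rw [show a * v * t * w = a * (v * (t * w)) by noncomm_ring, g.symm,
        show v * (t * w) * a = v * (t * w * a) by noncomm_ring,
        hv' _ (pow_mul_mem (pow_mul_mem (mem_one_pow ht) hw rfl) (mem_one_pow (g.le ha)) (by omega)), g.symm,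
        show t * w * a * b = t * w * (a * b) by noncomm_ring, g.symm]
      simp only [mul_assoc]
    have e3 : τ (a * b * t * w) = τ (a * b * c * w) := by
      rw [show a * b * t * w = a * b * (t * w) by noncomm_ring, g.symm,
        show t * w * (a * b) = t * (w * (a * b)) by noncomm_ring,
        ht' _ (pow_mul_mem hw (pow_mul_mem (mem_one_pow (g.le ha)) (mem_one_pow (g.le hb)) rfl) (by omega)), g.symm,
        show w * (a * b) * c = w * (a * b * c) by noncomm_ring, g.symm]
    rw [e1, e2, e3]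
  exact ⟨key hv ht ha hb hal hbl hcl, key ht hu hb hc hbl hcl hal⟩

theorem θ_three_eq_zero [FiniteDimensional k R] (hL : 4 ≤ L) {w : R} (hw : w ∈ N ^ (L - 3))
    (h : ∀ u v t : C, τ ((u : R) * v * t * w) = 0) : θ N τ 3 w = 0 := by
  refine right_faithful g (n := 2) le_rfl (m := L - 3) (by omega) (by omega) hw fun η hη => ?_
  refine θ_two_eq_zero g (by omega) (pow_mul_mem hw (mem_one_pow (g.le hη)) (by omega)) fun u v => ?_
  rw [g.symm, show w * η * ((u : R) * v) = w * (η * u * v) by noncomm_ring, g.symm]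
  exact h ⟨η, hη⟩ u v

theorem finrank_S_two [FiniteDimensional k R] (hL : 2 ≤ L) :
    finrank k (S N τ L 2) ≤ finrank k (W₂ N C τ L) :=
  finrank_map_le_map _ _ _ fun w hw h => θ_two_eq_zero g hL hw fun u v =>
    LinearMap.congr_fun (LinearMap.congr_fun h u) v

theorem finrank_S_three [FiniteDimensional k R] (hL : 4 ≤ L) :
    finrank k (S N τ L 3) ≤ finrank k (U₃ N C τ L) :=
  finrank_map_le_map _ _ _ fun w hw h => θ_three_eq_zero g hL hw fun u v t =>
    LinearMap.congr_fun (LinearMap.congr_fun (LinearMap.congr_fun h u) v) t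

theorem last [FiniteDimensional k R] (hL : 2 ≤ L) : finrank k C ≤ finrank k (S N τ L (L - 1)) := by
  have h1 : finrank k (C.map (θ N τ (L - 1))) ≤ finrank k (S N τ L (L - 1)) := by
    refine Submodule.finrank_mono (Submodule.map_mono ?_)
    rw [show L - (L - 1) = 1 by omega, pow_one]
    exact g.le
  have h3 := finrank_map_le_map C LinearMap.id (θ N τ (L - 1)) (fun c hc hz => g.nondeg c hc fun z hz' => by
    rw [g.symm]; exact θ_eq_zero.mp hz z hz')
  rw [Submodule.map_id] at h3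
  omega

theorem middle [FiniteDimensional k R] {c0 : ℕ} (hc : finrank k C = c0) (hc2 : 2 ≤ c0) (hc3 : c0 ≤ 3) {n : ℕ}
    (hn : 2 ≤ n) (hnL : n + 1 ≤ L) : c0 ≤ finrank k (S N τ L n) := by
  by_cases h : n + 1 = L
  · rw [← hc, show n = L - 1 by omega]
    exact last g (by omega)
  · by_contra hh
    have := g.layer (by omega) hn (by omega) (by omega)
    omega

theorem W₂_left (hL : 2 ≤ L) (u : C) (h : ∀ M ∈ W₂ N C τ L, M u = 0) : u = 0 := by
  refine Subtype.ext (g.nondeg u u.2 fun z hz => ?_)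
  rw [show L - 1 = L - 2 + 1 by omega, pow_succ'] at hz
  refine Submodule.mul_induction_on hz (fun v hv w hw => ?_) fun x y hx hy => ?_
  · obtain ⟨d, hd, hdl, hdr⟩ := g.exists_comp hv
    rw [g.symm, mul_assoc, hdl _ (pow_mul_mem hw (mem_one_pow (g.le u.2)) (by omega)), ← mul_assoc, g.symm,
      ← mul_assoc]
    exact LinearMap.congr_fun (h _ ⟨w, hw, rfl⟩) ⟨d, hd⟩
  · rw [mul_add, map_add, hx, hy, add_zero]

theorem W₂_right (hL : 2 ≤ L) (v : C) (h : ∀ M ∈ W₂ N C τ L, M.flip v = 0) : v = 0 := by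
  refine Subtype.ext (g.nondeg v v.2 fun z hz => ?_)
  rw [show L - 1 = L - 2 + 1 by omega, pow_succ] at hz
  refine Submodule.mul_induction_on hz (fun w hw u hu => ?_) fun x y hx hy => ?_
  · obtain ⟨d, hd, hdl, -⟩ := g.exists_comp hu
    rw [← mul_assoc, g.symm, hdl _ (pow_mul_mem (mem_one_pow (g.le v.2)) hw (by omega)), ← mul_assoc]
    exact LinearMap.congr_fun (h _ ⟨w, hw, rfl⟩) ⟨d, hd⟩
  · rw [mul_add, map_add, hx, hy, add_zero]

theorem U₃_slice (hL : 4 ≤ L) : ∀ T ∈ U₃ N C τ L, ∀ u, T u ∈ W₂ N C τ L := by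
  rintro _ ⟨w, hw, rfl⟩ u
  refine ⟨w * u, pow_mul_mem hw (mem_one_pow (g.le u.2)) (by omega), ?_⟩
  ext v t
  show τ ((v : R) * t * (w * u)) = τ ((u : R) * v * t * w)
  rw [← mul_assoc, g.symm]
  simp only [mul_assoc]

theorem U₃_slice' (hL : 4 ≤ L) : ∀ T ∈ U₃ N C τ L, ∀ t, rs T t ∈ W₂ N C τ L := by
  rintro _ ⟨w, hw, rfl⟩ t
  refine ⟨t * w, pow_mul_mem (mem_one_pow (g.le t.2)) hw (by omega), ?_⟩
  ext u v
  show τ ((u : R) * v * (t * w)) = τ ((u : R) * v * t * w)
  simp only [mul_assoc]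

/-- A cyclically invariant trilinear form vanishes if the cube is made of commutators. -/
theorem U₃_cyclic (hL : 3 ≤ L) (h3 : N ^ 3 ≤ D N 2 ⊔ N ^ 4) :
    ∀ T ∈ U₃ N C τ L, (∀ u v t, T u v t = T v t u) → T = 0 := by
  rintro _ ⟨w, hw, rfl⟩ hc
  have hD : D N 2 ≤ LinearMap.ker (τ.comp (LinearMap.mulRight k w)) := by
    refine Submodule.span_le.mpr ?_
    rintro _ ⟨u, hu, a, ha, rfl⟩
    rw [pow_two] at ha
    show τ ((u * a - a * u) * w) = 0
    refine Submodule.mul_induction_on ha (fun v hv t ht => ?_) fun x y hx hy => ?_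
    · obtain ⟨a, b, c, e⟩ := expand₃ g hL hu hv ht
      rw [sub_mul, map_sub, ← mul_assoc, (e w hw).1, (e w hw).2]
      exact sub_eq_zero.mpr (hc a b c)
    · rw [show (u * (x + y) - (x + y) * u) * w = (u * x - x * u) * w + (u * y - y * u) * w by noncomm_ring,
        map_add, hx, hy, add_zero]
  ext u v t
  obtain ⟨d, hd, q, hq, e⟩ := Submodule.mem_sup.mp (h3 (pow_mul_mem (pow_mul_mem (mem_one_pow (g.le u.2))
    (mem_one_pow (g.le v.2)) rfl) (mem_one_pow (g.le t.2)) rfl : (u : R) * v * t ∈ N ^ 3))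
  show τ ((u : R) * v * t * w) = 0
  rw [← e, add_mul, g.eq_zero_of_top hq hw (by omega), add_zero]
  exact hD hd

/-- Symmetric forms vanish when the square is made of commutators. -/
theorem W₂_symm (hL : 2 ≤ L) (h2 : N ^ 2 ≤ W0 N ⊔ N ^ 3) :
    ∀ M ∈ W₂ N C τ L, (∀ u v, M u v = M v u) → M = 0 := by
  rintro _ ⟨w, hw, rfl⟩ hs
  have hW : W0 N ≤ LinearMap.ker (τ.comp (LinearMap.mulRight k w)) := by
    refine Submodule.span_le.mpr ?_
    rintro _ ⟨y, hy, z, hz, rfl⟩
    show τ ((y * z - z * y) * w) = 0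
    obtain ⟨c, hc, hcl, -⟩ := g.exists_comp hy
    obtain ⟨d, hd, hdl, -⟩ := g.exists_comp hz
    have e1 : τ (y * z * w) = τ (c * d * w) := by
      rw [mul_assoc, hcl _ (pow_mul_mem (mem_one_pow hz) hw (by omega)), g.symm, mul_assoc,
        hdl _ (pow_mul_mem hw (mem_one_pow (g.le hc)) (by omega)), ← mul_assoc, g.symm, ← mul_assoc]
    have e2 : τ (z * y * w) = τ (d * c * w) := by
      rw [mul_assoc, hdl _ (pow_mul_mem (mem_one_pow hy) hw (by omega)), g.symm, mul_assoc,
        hcl _ (pow_mul_mem hw (mem_one_pow (g.le hd)) (by omega)), ← mul_assoc, g.symm, ← mul_assoc]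
    rw [sub_mul, map_sub, e1, e2]
    exact sub_eq_zero.mpr (hs ⟨c, hc⟩ ⟨d, hd⟩)
  ext u v
  obtain ⟨d, hd, q, hq, e⟩ := Submodule.mem_sup.mp (h2 (pow_mul_mem (mem_one_pow (g.le u.2))
    (mem_one_pow (g.le v.2)) rfl : (u : R) * v ∈ N ^ 2))
  show τ ((u : R) * v * w) = 0
  rw [← e, add_mul, g.eq_zero_of_top hq hw (by omega), add_zero]
  exact hW hd

theorem C_ne_bot (hL : 2 ≤ L) : C ≠ ⊥ := by
  intro hC
  obtain ⟨z, hz, hz0⟩ := g.ne_zero
  apply hz0
  rw [show L = 1 + (L - 1) by omega, pow_add, pow_one] at hz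
  refine Submodule.mul_induction_on hz (fun u hu a ha => ?_) fun x y hx hy => ?_
  · obtain ⟨c, hc, hcl, -⟩ := g.exists_comp hu
    rw [hC, Submodule.mem_bot] at hc
    rw [hcl a ha, hc, zero_mul, map_zero]
  · rw [map_add, hx, hy, add_zero]

/-- With the square made of commutators, at least three independent components are needed. -/
theorem case_small [FiniteDimensional k R] (hL : 4 ≤ L) (hC : finrank k C ≤ 2) (h2 : N ^ 2 ≤ W0 N ⊔ N ^ 3) :
    False := by
  have hs := W₂_symm g (by omega) h2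
  have h0 : finrank k C ≠ 0 := fun e => C_ne_bot g (by omega) (Submodule.finrank_eq_zero.mp e)
  rcases (by omega : finrank k C = 1 ∨ finrank k C = 2) with hc | hc
  · let b := Module.finBasisOfFinrankEq k C hc
    refine b.ne_zero 0 (W₂_left g (by omega) _ fun M hM => ?_)
    rw [hs M hM fun u v => ?_]
    · rfl
    · have hflip : M = M.flip := b.ext fun i => b.ext fun j => by
        fin_cases i; fin_cases j; rfl
      conv_lhs => rw [hflip]
      rfl
  · let b := Module.finBasisOfFinrankEq k C hc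
    let φ : Bil k C →ₗ[k] k :=
      { toFun := fun M => M (b 0) (b 1) - M (b 1) (b 0)
        map_add' := fun M N => by simp; ring
        map_smul' := fun c M => by simp; ring }
    have hinj : Function.Injective (φ.comp (W₂ N C τ L).subtype) := by
      refine (injective_iff_map_eq_zero _).mpr ?_
      rintro ⟨M, hM⟩ hz
      have hz' : M (b 0) (b 1) - M (b 1) (b 0) = 0 := hz
      rw [sub_eq_zero] at hz'
      refine Subtype.ext (hs M hM fun u v => ?_)
      have hflip : M = M.flip := ext_two b (ext_two b rfl hz') (ext_two b hz'.symm rfl)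
      conv_lhs => rw [hflip]
      rfl
    have h1 := LinearMap.finrank_le_finrank_of_injective hinj
    rw [Module.finrank_self] at h1
    have := middle g hc le_rfl (by omega) (n := 2) le_rfl (by omega)
    have := finrank_S_two g (by omega)
    omega

end

theorem W0_le_of_gen {x y : R} (hx : x ∈ N) (hy : y ∈ N) (hN : N ≤ Submodule.span k {x, y} ⊔ N ^ 2) :
    W0 N ≤ Submodule.span k {x * y - y * x} ⊔ D N 2 := by
  refine Submodule.span_le.mpr ?_
  rintro _ ⟨u, hu, v, hv, rfl⟩
  obtain ⟨p, hp, n, hn, rfl⟩ := Submodule.mem_sup.mp (hN hu)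
  obtain ⟨q, hq, n', hn', rfl⟩ := Submodule.mem_sup.mp (hN hv)
  obtain ⟨a, b, rfl⟩ := Submodule.mem_span_pair.mp hp
  obtain ⟨a', b', rfl⟩ := Submodule.mem_span_pair.mp hq
  have hpN : a • x + b • y ∈ N := add_mem (N.smul_mem a hx) (N.smul_mem b hy)
  have e : (a • x + b • y + n) * (a' • x + b' • y + n') - (a' • x + b' • y + n') * (a • x + b • y + n) =
      (a * b' - b * a') • (x * y - y * x) +
        (((a • x + b • y) * n' - n' * (a • x + b • y)) +
          (n * (a' • x + b' • y + n') - (a' • x + b' • y + n') * n)) := by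
    simp only [add_mul, mul_add, smul_mul_assoc, mul_smul_comm, smul_smul, sub_smul, smul_sub, smul_add, mul_comm a' a,
      mul_comm b' b, mul_comm a' b, mul_comm b' a]
    abel
  rw [e]
  exact add_mem (Submodule.mem_sup_left (Submodule.smul_mem _ _ (Submodule.mem_span_singleton_self _)))
    (Submodule.mem_sup_right (add_mem (comm_mem_D hpN hn') (comm_mem_D' hv hn)))

section

variable [FiniteDimensional k R]

/-- Three generators force at most three layers. -/
theorem three_gen [IsAlgClosed k] (g : Graded f A N τ L C) (hCN : C ⊓ N ^ 2 = ⊥)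
    (hr : finrank k N = finrank k ↥(N ^ 2) + 3) (hcod : N ^ 2 ≤ W0 N ⊔ N ^ L) : L ≤ 3 := by
  by_contra hL
  have h2 : N ^ 2 ≤ W0 N ⊔ N ^ 3 := hcod.trans (sup_le_sup_left (pow_anti g.corner (by omega) (by omega)) _)
  have hsum := Submodule.finrank_sup_add_finrank_inf_eq C (N ^ 2)
  rw [hCN, finrank_bot] at hsum
  have hle := Submodule.finrank_mono (sup_le g.le ((pow_anti g.corner le_rfl (by omega)).trans_eq (pow_one N)) :
    C ⊔ N ^ 2 ≤ N)
  by_cases hC2 : finrank k C ≤ 2
  · exact case_small g (by omega) hC2 h2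
  have hC : finrank k C = 3 := by omega
  have htop : C ⊔ N ^ 2 = N := Submodule.eq_of_le_of_finrank_le
    (sup_le g.le ((pow_anti g.corner le_rfl (by omega)).trans_eq (pow_one N))) (by omega)
  have hW3 : 3 ≤ finrank k (W₂ N C τ L) :=
    (middle g hC (by omega) le_rfl (n := 2) le_rfl (by omega)).trans (finrank_S_two g (by omega))
  have hs := W₂_symm g (by omega) h2
  let b := Module.finBasisOfFinrankEq k C hC
  let φ : Bil k C →ₗ[k] (Fin 3 → k) :=
    { toFun := fun M => ![M (b 0) (b 1) - M (b 1) (b 0), M (b 0) (b 2) - M (b 2) (b 0),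
        M (b 1) (b 2) - M (b 2) (b 1)]
      map_add' := fun M N => by ext i; fin_cases i <;> simp <;> ring
      map_smul' := fun c M => by ext i; fin_cases i <;> simp <;> ring }
  have hinj : Function.Injective (φ.comp (W₂ N C τ L).subtype) := by
    refine (injective_iff_map_eq_zero _).mpr ?_
    rintro ⟨M, hM⟩ hz
    have hz' : φ M = 0 := hz
    have h0 := congrFun hz' 0
    have h1 := congrFun hz' 1
    have h2' := congrFun hz' 2
    simp [φ, sub_eq_zero] at h0 h1 h2'
    refine Subtype.ext (hs M hM ?_)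
    have : M = M.flip := b.ext fun i => b.ext fun j => by
      fin_cases i <;> fin_cases j <;> simp [h0, h1, h2']
    intro u v
    conv_lhs => rw [this]
    rfl
  have hdim : finrank k (W₂ N C τ L) = finrank k (Fin 3 → k) :=
    le_antisymm (LinearMap.finrank_le_finrank_of_injective hinj) (by simpa using hW3)
  have hsurj := (LinearMap.injective_iff_surjective_of_finrank_eq_finrank hdim).mp hinj
  set x : R := ((b 0 : C) : R) with hxdef
  set y : R := ((b 1 : C) : R) with hydef
  set z : R := ((b 2 : C) : R) with hzdef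
  have hgen : N ≤ Submodule.span k {x, y, z} ⊔ N ^ 2 := by
    conv_lhs => rw [← htop]
    refine sup_le_sup_right (fun c hc => ?_) _
    have := b.sum_repr ⟨c, hc⟩
    rw [Fin.sum_univ_three] at this
    have e := congrArg Subtype.val this
    simp only [Submodule.coe_add, Submodule.coe_smul] at e
    rw [show c = _ from e.symm]
    refine add_mem (add_mem (Submodule.smul_mem _ _ ?_) (Submodule.smul_mem _ _ ?_)) (Submodule.smul_mem _ _ ?_) <;>
      exact Submodule.subset_span (by simp [hxdef, hydef, hzdef])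
  have hx : x ∈ N := g.le (b 0).2
  have hy : y ∈ N := g.le (b 1).2
  have hz : z ∈ N := g.le (b 2).2
  -- commutators of the generators are independent modulo the cube
  have hW : W0 N ≤ Submodule.span k {x * y - y * x, x * z - z * x, y * z - z * y} ⊔ D N 2 := by
    refine Submodule.span_le.mpr ?_
    rintro _ ⟨u, hu, v, hv, rfl⟩
    obtain ⟨p, hp, n, hn, rfl⟩ := Submodule.mem_sup.mp (hgen hu)
    obtain ⟨q, hq, n', hn', rfl⟩ := Submodule.mem_sup.mp (hgen hv)
    have hgN : Submodule.span k {x, y, z} ≤ N := Submodule.span_le.mpr (by simp [Set.insert_subset_iff, hx, hy, hz])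
    obtain ⟨a, t, ht, rfl⟩ := Submodule.mem_span_insert.mp hp
    obtain ⟨b₁, c, rfl⟩ := Submodule.mem_span_pair.mp ht
    obtain ⟨a', t', ht', rfl⟩ := Submodule.mem_span_insert.mp hq
    obtain ⟨b', c', rfl⟩ := Submodule.mem_span_pair.mp ht'
    have e : (a • x + (b₁ • y + c • z) + n) * (a' • x + (b' • y + c' • z) + n') -
        (a' • x + (b' • y + c' • z) + n') * (a • x + (b₁ • y + c • z) + n) =
      (a * b' - b₁ * a') • (x * y - y * x) + (a * c' - c * a') • (x * z - z * x) +
        (b₁ * c' - c * b') • (y * z - z * y) +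
        (((a • x + (b₁ • y + c • z)) * n' - n' * (a • x + (b₁ • y + c • z))) +
          (n * (a' • x + (b' • y + c' • z) + n') - (a' • x + (b' • y + c' • z) + n') * n)) := by
      simp only [add_mul, mul_add, smul_mul_assoc, mul_smul_comm, smul_smul, sub_smul, smul_sub, smul_add, mul_comm a' a,
        mul_comm b' b₁, mul_comm c' c, mul_comm a' b₁, mul_comm a' c, mul_comm b' a, mul_comm b' c, mul_comm c' a,
        mul_comm c' b₁]
      abel
    rw [e]
    refine add_mem (Submodule.mem_sup_left (add_mem (add_mem ?_ ?_) ?_))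
      (Submodule.mem_sup_right (add_mem (comm_mem_D (hgN hp) hn') (comm_mem_D' hv hn))) <;>
      exact Submodule.smul_mem _ _ (Submodule.subset_span (by simp))
  have h3 : N ^ 3 ≤ D N 2 ⊔ N ^ 4 := by
    intro a ha
    obtain ⟨d, hd, q, hq, rfl⟩ := Submodule.mem_sup.mp
      ((pow_anti g.corner (by omega) (by omega : 2 ≤ 3)).trans (hcod.trans (sup_le_sup_left
        (pow_anti g.corner (by omega) (by omega : 4 ≤ L)) _)) ha)
    obtain ⟨s, hs', e, he, rfl⟩ := Submodule.mem_sup.mp (hW hd)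
    obtain ⟨c₁, t, ht, rfl⟩ := Submodule.mem_span_insert.mp hs'
    obtain ⟨c₂, c₃, rfl⟩ := Submodule.mem_span_pair.mp ht
    set s := c₁ • (x * y - y * x) + (c₂ • (x * z - z * x) + c₃ • (y * z - z * y)) with hsdef
    have hs3 : s ∈ N ^ 3 := by
      have h1 : (s + e + q) - e - q ∈ N ^ 3 :=
        sub_mem (sub_mem ha (D_le 2 he)) (pow_anti g.corner (by omega) (by omega : 3 ≤ 4) hq)
      rwa [show s + e + q - e - q = s by abel] at h1
    have hzero : ∀ w ∈ N ^ (L - 2), τ (s * w) = 0 := fun w hw => by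
      rw [g.eq_zero_of_top hs3 hw (by omega), map_zero]
    have hcomb : ∀ M ∈ W₂ N C τ L, c₁ * φ M 0 + (c₂ * φ M 1 + c₃ * φ M 2) = 0 := by
      rintro _ ⟨w, hw, rfl⟩
      have := hzero w hw
      simp only [hsdef, add_mul, smul_mul_assoc, sub_mul, map_add, map_smul, map_sub, smul_eq_mul] at this
      exact this
    have hc : c₁ = 0 ∧ c₂ = 0 ∧ c₃ = 0 := by
      obtain ⟨⟨M₁, hM₁⟩, e₁⟩ := hsurj ![1, 0, 0]
      obtain ⟨⟨M₂, hM₂⟩, e₂⟩ := hsurj ![0, 1, 0]
      obtain ⟨⟨M₃, hM₃⟩, e₃⟩ := hsurj ![0, 0, 1]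
      have f₁ := hcomb M₁ hM₁
      have f₂ := hcomb M₂ hM₂
      have f₃ := hcomb M₃ hM₃
      rw [show φ M₁ = ![1, 0, 0] from e₁] at f₁
      rw [show φ M₂ = ![0, 1, 0] from e₂] at f₂
      rw [show φ M₃ = ![0, 0, 1] from e₃] at f₃
      simp at f₁ f₂ f₃
      exact ⟨f₁, f₂, f₃⟩
    refine add_mem (add_mem ?_ (Submodule.mem_sup_left he)) (Submodule.mem_sup_right hq)
    rw [hsdef, hc.1, hc.2.1, hc.2.2, zero_smul, zero_smul, zero_smul, add_zero, add_zero]
    exact zero_mem _
  exact Data.false (W := W₂ N C τ L) (U := U₃ N C τ L)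
    { dimV := hC
      dimW := hW3
      symm := hs
      left := W₂_left g (by omega)
      right := W₂_right g (by omega)
      slice := U₃_slice g (by omega)
      slice' := U₃_slice' g (by omega)
      cyclic := U₃_cyclic g (by omega) h3
      dimU := (middle g hC (by omega) le_rfl (n := 3) (by omega) (by omega)).trans (finrank_S_three g (by omega)) }

/-- One component cannot fill the algebra. -/
theorem two_gen_line (g : Graded f A N τ L C) (hC : finrank k C = 1) (hL : 4 ≤ L)
    (hN : ∀ x ∈ C, x ≠ 0 → ∃ y ∈ N, N ≤ Submodule.span k {x, y} ⊔ N ^ 2) (h3 : N ^ 3 ≤ W0 N ⊔ N ^ 4) : False := by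
  obtain ⟨⟨x, hxC⟩, hx0, hspan⟩ := finrank_eq_one_iff'.mp hC
  have hxN := g.le hxC
  obtain ⟨y, hy, hgen⟩ := hN x hxC fun e => hx0 (Subtype.ext e)
  have hxp : ∀ j, x ^ j ∈ N ^ j := fun j => by
    induction j with
    | zero => rw [pow_zero, pow_zero]; exact Submodule.one_le.mp le_rfl
    | succ j ih => rw [pow_succ, pow_succ]; exact Submodule.mul_mem_mul ih hxN
  have hsub : ∀ {u : R}, u ∈ N → ∃ c : k, ∀ z ∈ N ^ (L - 1), τ (u * z) = c * τ (x * z) := fun {u} hu => by
    obtain ⟨c, hc, hcl, -⟩ := g.exists_comp hu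
    obtain ⟨a, ha⟩ := hspan ⟨c, hc⟩
    refine ⟨a, fun z hz => ?_⟩
    rw [hcl z hz, show c = a • x from (congrArg Subtype.val ha).symm, smul_mul_assoc, map_smul, smul_eq_mul]
  -- the top power of the generator
  have hxL : τ (x ^ L) = 0 := by
    have hm : x ^ 3 ∈ N ^ 3 := hxp 3
    obtain ⟨d, hd, t, ht, e⟩ := Submodule.mem_sup.mp (h3 hm)
    have hW : W0 N ≤ LinearMap.ker (τ.comp (LinearMap.mulRight k (x ^ (L - 3)))) := by
      refine (W0_le_of_gen hxN hy hgen).trans (sup_le ?_ ?_)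
      · rw [Submodule.span_singleton_le_iff_mem]
        show τ ((x * y - y * x) * x ^ (L - 3)) = 0
        rw [sub_mul, map_sub, mul_assoc, g.symm, mul_assoc, ← pow_succ, mul_assoc, ← pow_succ']
        exact sub_self _
      · refine Submodule.span_le.mpr ?_
        rintro _ ⟨u, hu, a, ha, rfl⟩
        show τ ((u * a - a * u) * x ^ (L - 3)) = 0
        obtain ⟨c, hc⟩ := hsub hu
        rw [sub_mul, map_sub, mul_assoc, hc _ (pow_mul_mem ha (hxp _) (by omega)), g.symm (a * u),
          show x ^ (L - 3) * (a * u) = x ^ (L - 3) * a * u by noncomm_ring, g.symm _ u,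
          hc _ (pow_mul_mem (hxp _) ha (by omega))]
        rw [show τ (x * (a * x ^ (L - 3))) = τ (x * (x ^ (L - 3) * a)) by
          rw [g.symm x, mul_assoc, ← pow_succ, g.symm a, ← mul_assoc, ← pow_succ']]
        exact sub_self _
    have e' := hW hd
    calc τ (x ^ L) = τ (x ^ 3 * x ^ (L - 3)) := by rw [← pow_add]; congr 2; omega
      _ = τ (d * x ^ (L - 3)) + τ (t * x ^ (L - 3)) := by rw [← e, add_mul, map_add]
      _ = 0 := by
        rw [g.eq_zero_of_top ht (hxp _) (by omega), map_zero, add_zero]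
        exact e'
  -- hence the top layer vanishes
  have hall : ∀ j, j + 1 ≤ L → ∀ a ∈ N ^ (j + 1), τ (a * x ^ (L - (j + 1))) = 0 := by
    intro j
    induction j with
    | zero =>
      intro _ a ha
      rw [pow_one] at ha
      obtain ⟨c, hc⟩ := hsub ha
      rw [hc _ (by simpa using hxp (L - 1)), ← pow_succ', show L - (0 + 1) + 1 = L by omega, hxL, mul_zero]
    | succ j ih =>
      intro hj a ha
      rw [pow_succ' N (j + 1)] at ha
      refine Submodule.mul_induction_on ha (fun u hu a' ha' => ?_) fun x y hx hy => ?_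
      · obtain ⟨c, hc⟩ := hsub hu
        rw [mul_assoc, hc _ (pow_mul_mem ha' (hxp _) (by omega)), g.symm, mul_assoc, ← pow_succ,
          show L - (j + 1 + 1) + 1 = L - (j + 1) by omega, ih (by omega) a' ha', mul_zero]
      · rw [add_mul, map_add, hx, hy, add_zero]
  obtain ⟨z, hz, hz0⟩ := g.ne_zero
  refine hz0 ?_
  have := hall (L - 1) (by omega) z (by rwa [show L - 1 + 1 = L by omega])
  rwa [show L - (L - 1 + 1) = 0 by omega, pow_zero, mul_one] at this

end

end Cfsg.Agent.Char.FiveForms
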