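import Cfsg.Agent.Lib.Char.FiveForms.Two

/-!
# A local symmetric algebra with five trace forms has dimension at most ten
-/

set_option autoImplicit false
set_option linter.unusedSectionVars false
set_option maxHeartbeats 1600000

namespace Cfsg.Agent.Char.FiveForms

open Module
open LocalSymm (Corner)

variable {k R : Type*} [Field k] [Ring R] [Algebra k R] {f : R} {A N : Submodule k R} {τ : R →ₗ[k] k} {L : ℕ}

theorem W0_le_of_three {x y z : R} (hx : x ∈ N) (hy : y ∈ N) (hz : z ∈ N)
    (hgen : N ≤ Submodule.span k {x, y, z} ⊔ N ^ 2) :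
    W0 N ≤ Submodule.span k {x * y - y * x, x * z - z * x, y * z - z * y} ⊔ D N 2 := by
  refine Submodule.span_le.mpr ?_
  rintro _ ⟨u, hu, v, hv, rfl⟩
  obtain ⟨p, hp, n, hn, rfl⟩ := Submodule.mem_sup.mp (hgen hu)
  obtain ⟨q, hq, n', hn', rfl⟩ := Submodule.mem_sup.mp (hgen hv)
  have hgN : Submodule.span k {x, y, z} ≤ N :=
    Submodule.span_le.mpr (by simp [Set.insert_subset_iff, hx, hy, hz])
  obtain ⟨a, t, ht, rfl⟩ := Submodule.mem_span_insert.mp hp
  obtain ⟨b₁, c, rfl⟩ := Submodule.mem_span_pair.mp ht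
  obtain ⟨a', t', ht', rfl⟩ := Submodule.mem_span_insert.mp hq
  obtain ⟨b', c', rfl⟩ := Submodule.mem_span_pair.mp ht'
  have e : (a • x + (b₁ • y + c • z) + n) * (a' • x + (b' • y + c' • z) + n') -
      (a' • x + (b' • y + c' • z) + n') * (a • x + (b₁ • y + c • z) + n) =
    (a * b' - b₁ * a') • (x * y - y * x) + (a * c' - c * a') • (x * z - z * x) +
      (b₁ * c' - c * b') • (y * z - z * y) +
      (((a • x + (b₁ • y + c • z)) * n' - n' * (a • x + (b₁ • y + c • z))) +
        (n * (a' • x + (b' • y + c' • z) + n') - (a' • x + (b' • y + c' • z) + n') * n)) := by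
    simp only [add_mul, mul_add, smul_mul_assoc, mul_smul_comm, smul_smul, sub_smul, smul_sub, smul_add,
      mul_comm a' a, mul_comm b' b₁, mul_comm c' c, mul_comm a' b₁, mul_comm a' c, mul_comm b' a, mul_comm b' c,
      mul_comm c' a, mul_comm c' b₁]
    abel
  rw [e]
  refine add_mem (Submodule.mem_sup_left (add_mem (add_mem ?_ ?_) ?_))
    (Submodule.mem_sup_right (add_mem (comm_mem_D (hgN hp) hn') (comm_mem_D' hv hn))) <;>
    exact Submodule.smul_mem _ _ (Submodule.subset_span (by simp))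

variable [FiniteDimensional k R]

theorem finrank_span_sup_le {s : Set R} [Fintype s] (P : Submodule k R) :
    finrank k ↥(Submodule.span k s ⊔ P) ≤ s.toFinset.card + finrank k P :=
  (Submodule.finrank_add_le_finrank_add_finrank _ _).trans
    (Nat.add_le_add_right (finrank_span_le_card s) _)

theorem finrank_pair_le (a b : R) (P : Submodule k R) :
    finrank k ↥(Submodule.span k {a, b} ⊔ P) ≤ 2 + finrank k P := by
  classical
  refine (finrank_span_sup_le P).trans (Nat.add_le_add_right ?_ _)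
  simp only [Set.toFinset_insert, Set.toFinset_singleton]
  exact Finset.card_le_two

/-- A pair of generators. -/
theorem exists_second {x : R} (hx : x ∈ N) (hx2 : x ∉ N ^ 2) (hle : N ^ 2 ≤ N)
    (hr : finrank k N = finrank k ↥(N ^ 2) + 2) : ∃ y ∈ N, N ≤ Submodule.span k {x, y} ⊔ N ^ 2 := by
  set X := Submodule.span k {x} ⊔ N ^ 2 with hX
  have hXN : X ≤ N := sup_le ((Submodule.span_singleton_le_iff_mem _ _).mpr hx) hle
  have hX1 : finrank k X ≤ finrank k ↥(N ^ 2) + 1 := by
    refine (Submodule.finrank_add_le_finrank_add_finrank _ _).trans ?_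
    have := finrank_span_le_card ({x} : Set R) (R := k)
    simp at this
    omega
  obtain ⟨y, hy, hyX⟩ := SetLike.exists_of_lt (lt_of_le_of_ne hXN fun e => by rw [e] at hX1; omega : X < N)
  have h1 : finrank k ↥(N ^ 2) < finrank k X := Submodule.finrank_lt_finrank_of_lt
    (lt_of_le_of_ne le_sup_right fun e => hx2 (e ▸ le_sup_left (b := N ^ 2) (Submodule.mem_span_singleton_self x)))
  have hle' : Submodule.span k {x, y} ⊔ N ^ 2 ≤ N :=
    sup_le (Submodule.span_le.mpr (by simp [Set.insert_subset_iff, hx, hy])) hle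
  have hXle : X ≤ Submodule.span k {x, y} ⊔ N ^ 2 :=
    sup_le_sup_right (Submodule.span_mono (by simp)) _
  have hlt : X < Submodule.span k {x, y} ⊔ N ^ 2 := lt_of_le_of_ne hXle fun e =>
    hyX (e ▸ le_sup_left (b := N ^ 2) (Submodule.subset_span (by simp) : y ∈ Submodule.span k {x, y}))
  have h2 := Submodule.finrank_lt_finrank_of_lt hlt
  exact ⟨y, hy, (Submodule.eq_of_le_of_finrank_le hle' (by omega)).ge⟩

/-- The dimension bound. -/
theorem finrank_le_ten [IsAlgClosed k] (h : Corner f A N τ)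
    (hforms : ∀ W : Submodule k R, W ≤ A → (∀ a ∈ A, ∀ b ∈ A, a * b - b * a ∈ W) →
      finrank k A ≤ finrank k W + 5) : finrank k A ≤ 10 := by
  classical
  have hN2N : N ^ 2 ≤ N := by rw [pow_two]; exact h.mul_le
  have hW : finrank k A ≤ finrank k (W0 N) + 5 := hforms (W0 N) ((W0_le_sq.trans hN2N).trans h.le)
    fun a ha b hb => by
      obtain ⟨y, hy, z, hz, e⟩ := h.comm_sub ha hb
      rw [e]
      exact comm_mem_W0 hy hz
  have hAN : finrank k A ≤ finrank k N + 1 := by
    have hle : A ≤ Submodule.span k {f} ⊔ N := fun a ha => by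
      obtain ⟨c, hc⟩ := h.decomp a ha
      exact Submodule.mem_sup.mpr ⟨c • f, Submodule.smul_mem _ c (Submodule.mem_span_singleton_self f), _, hc,
        add_sub_cancel _ _⟩
    have h1 := (Submodule.finrank_mono hle).trans (Submodule.finrank_add_le_finrank_add_finrank _ _)
    have h2 := finrank_span_le_card ({f} : Set R) (R := k)
    simp at h2
    omega
  have hNA := h.finrank_le
  by_cases hN2 : N ^ 2 = ⊥
  · have hW0 : W0 N = ⊥ := le_bot_iff.mp (hN2 ▸ W0_le_sq)
    rw [hW0, finrank_bot] at hW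
    omega
  -- the last layer
  obtain ⟨L, htop, hne, hL2⟩ : ∃ L, N ^ (L + 1) = ⊥ ∧ N ^ L ≠ ⊥ ∧ 2 ≤ L := by
    obtain ⟨K, hK⟩ := h.nilp
    let L := Nat.find (⟨K, hK⟩ : ∃ j, N ^ (j + 1) = ⊥)
    have hL : N ^ (L + 1) = ⊥ := Nat.find_spec (⟨K, hK⟩ : ∃ j, N ^ (j + 1) = ⊥)
    have hL2 : 2 ≤ L := by
      by_contra hh
      refine hN2 (le_bot_iff.mp ?_)
      rw [← hL]
      exact pow_anti h (by omega) (by omega)
    refine ⟨L, hL, fun e => ?_, hL2⟩
    refine Nat.find_min (⟨K, hK⟩ : ∃ j, N ^ (j + 1) = ⊥) (show L - 1 < L by omega) ?_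
    rwa [show L - 1 + 1 = L by omega]
  obtain ⟨C, g, hCN⟩ := exists_graded h htop hne hL2
  obtain ⟨z, hz, hz0⟩ := g.ne_zero
  have hlt : finrank k (W0 N) < finrank k ↥(W0 N ⊔ N ^ L) := Submodule.finrank_lt_finrank_of_lt
    (lt_of_le_of_ne le_sup_left fun e => hz0 (tau_W0 h (e ▸ le_sup_right (a := W0 N) hz)))
  have hWL2 : W0 N ⊔ N ^ L ≤ N ^ 2 := sup_le W0_le_sq (pow_anti h (by omega) hL2)
  have hWL := Submodule.finrank_mono hWL2
  have hr0 := Submodule.finrank_mono hN2N
  have htopdim := finrank_top h htop (show 1 ≤ L by omega)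
  by_cases hgen : ∃ t ∈ N, N ≤ Submodule.span k {t} ⊔ N * N
  · obtain ⟨t, ht, htN⟩ := hgen
    have hW0 : W0 N = ⊥ := by
      refine le_bot_iff.mp (Submodule.span_le.mpr ?_)
      rintro _ ⟨a, ha, b, hb, rfl⟩
      rw [SetLike.mem_coe, Submodule.mem_bot, h.comm_of_span ht htN a ha b hb, sub_self]
    rw [hW0, finrank_bot] at hW
    omega
  push Not at hgen
  have hne2 : ¬ N ≤ N ^ 2 := fun e => hgen 0 (zero_mem _) (e.trans (by rw [pow_two]; exact le_sup_right))
  obtain ⟨x, hx, hx2⟩ := SetLike.not_le_iff_exists.mp hne2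
  have hr2 : finrank k ↥(N ^ 2) + 2 ≤ finrank k N := by
    have hlt1 : N ^ 2 < Submodule.span k {x} ⊔ N ^ 2 := lt_of_le_of_ne le_sup_right fun e =>
      hx2 (e ▸ le_sup_left (b := N ^ 2) (Submodule.mem_span_singleton_self x))
    have hlt2 : Submodule.span k {x} ⊔ N ^ 2 < N := lt_of_le_of_ne
      (sup_le ((Submodule.span_singleton_le_iff_mem _ _).mpr hx) hN2N)
      fun e => hgen x hx (by rw [← pow_two, e])
    have := Submodule.finrank_lt_finrank_of_lt hlt1
    have := Submodule.finrank_lt_finrank_of_lt hlt2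
    omega
  by_cases hr : finrank k N = finrank k ↥(N ^ 2) + 2
  swap
  · -- three generators
    have hr3 : finrank k N = finrank k ↥(N ^ 2) + 3 := by omega
    have hcod : N ^ 2 ≤ W0 N ⊔ N ^ L := (Submodule.eq_of_le_of_finrank_le hWL2 (by omega)).ge
    have hL3 := three_gen g hCN hr3 hcod
    rcases (by omega : L = 2 ∨ L = 3) with rfl | rfl
    · omega
    obtain ⟨y, hy, hy2⟩ := SetLike.not_le_iff_exists.mp (hgen x hx)
    rw [← pow_two] at hy2
    have hle2 : Submodule.span k {x, y} ⊔ N ^ 2 ≤ N :=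
      sup_le (Submodule.span_le.mpr (by simp [Set.insert_subset_iff, hx, hy])) hN2N
    have hne3 : Submodule.span k {x, y} ⊔ N ^ 2 ≠ N := fun e => by
      have := finrank_pair_le x y (N ^ 2)
      rw [e] at this
      omega
    obtain ⟨w, hw, hw2⟩ := SetLike.exists_of_lt (lt_of_le_of_ne hle2 hne3)
    have hgen3 : N ≤ Submodule.span k {x, y, w} ⊔ N ^ 2 := by
      have h1 : Submodule.span k {x, y, w} ⊔ N ^ 2 ≤ N :=
        sup_le (Submodule.span_le.mpr (by simp [Set.insert_subset_iff, hx, hy, hw])) hN2N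
      refine (Submodule.eq_of_le_of_finrank_le h1 ?_).ge
      have l1 : N ^ 2 < Submodule.span k {x} ⊔ N ^ 2 := lt_of_le_of_ne le_sup_right fun e =>
        hx2 (e ▸ le_sup_left (b := N ^ 2) (Submodule.mem_span_singleton_self x))
      have l2 : Submodule.span k {x} ⊔ N ^ 2 < Submodule.span k {x, y} ⊔ N ^ 2 := lt_of_le_of_ne
        (sup_le_sup_right (Submodule.span_mono (by simp)) _) fun e =>
        hy2 (e ▸ le_sup_left (b := N ^ 2) (Submodule.subset_span (by simp) : y ∈ Submodule.span k {x, y}))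
      have l3 : Submodule.span k {x, y} ⊔ N ^ 2 < Submodule.span k {x, y, w} ⊔ N ^ 2 := lt_of_le_of_ne
        (sup_le_sup_right (Submodule.span_mono (by simp [Set.insert_subset_iff])) _) fun e =>
        hw2 (e ▸ le_sup_left (b := N ^ 2) (Submodule.subset_span (by simp) : w ∈ Submodule.span k {x, y, w}))
      have := Submodule.finrank_lt_finrank_of_lt l1
      have := Submodule.finrank_lt_finrank_of_lt l2
      have := Submodule.finrank_lt_finrank_of_lt l3
      omega
    have hWle := (W0_le_of_three hx hy hw hgen3).trans (sup_le_sup_left (D_le 2) _)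
    have h1 := (Submodule.finrank_mono hWle).trans (finrank_span_sup_le (N ^ 3))
    have h2 : ({x * y - y * x, x * w - w * x, y * w - w * y} : Set R).toFinset.card ≤ 3 := by
      simp only [Set.toFinset_insert, Set.toFinset_singleton]
      exact Finset.card_le_three
    omega
  -- two generators
  obtain ⟨y, hy, hxy⟩ := exists_second hx hx2 hN2N hr
  by_cases hL : 5 ≤ L
  · exfalso
    have hsum := Submodule.finrank_sup_add_finrank_inf_eq C (N ^ 2)
    rw [hCN, finrank_bot] at hsum
    have hle := Submodule.finrank_mono (sup_le g.le hN2N : C ⊔ N ^ 2 ≤ N)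
    by_cases hA : N ^ 2 ≤ W0 N ⊔ N ^ 3
    · exact case_small g (by omega) (by omega) hA
    have hPle : W0 N ⊔ N ^ L ≤ W0 N ⊔ N ^ 3 := sup_le_sup_left (pow_anti h (by omega) (by omega)) _
    have hP2 : W0 N ⊔ N ^ 3 ≤ N ^ 2 := sup_le W0_le_sq (pow_anti h (by omega) (by omega))
    have h1 := Submodule.finrank_lt_finrank_of_lt (lt_of_le_of_ne hP2 fun e => hA e.ge)
    have heq : W0 N ⊔ N ^ L = W0 N ⊔ N ^ 3 := Submodule.eq_of_le_of_finrank_le hPle (by omega)
    have h3' : N ^ 3 ≤ W0 N ⊔ N ^ 4 :=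
      (le_sup_right.trans heq.ge).trans (sup_le_sup_left (pow_anti h (by omega) (by omega)) _)
    have h4' : N ^ 4 ≤ W0 N ⊔ N ^ 5 := (pow_anti h (by omega) (by omega : 3 ≤ 4)).trans
      ((le_sup_right.trans heq.ge).trans (sup_le_sup_left (pow_anti h (by omega) (by omega)) _))
    have hC0 : finrank k C ≠ 0 := fun e => C_ne_bot g (by omega) (Submodule.finrank_eq_zero.mp e)
    rcases (by omega : finrank k C = 1 ∨ finrank k C = 2) with hC | hC
    · refine two_gen_line g hC (by omega) (fun u hu hu0 => exists_second (g.le hu) (fun e => hu0 ?_) hN2N hr) h3'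
      have : u ∈ C ⊓ N ^ 2 := ⟨hu, e⟩
      rwa [hCN, Submodule.mem_bot] at this
    · obtain ⟨q, hq, hqP⟩ := SetLike.not_le_iff_exists.mp hA
      have hceq := Submodule.finrank_mono hPle
      refine two_gen_plane g hC hL (Submodule.eq_of_le_of_finrank_le (sup_le g.le hN2N) (by omega)) (q := q) ?_
        h3' h4'
      have hle2 : Submodule.span k {q} ⊔ (W0 N ⊔ N ^ 3) ≤ N ^ 2 :=
        sup_le ((Submodule.span_singleton_le_iff_mem _ _).mpr hq) hP2
      have := Submodule.finrank_lt_finrank_of_lt (lt_of_le_of_ne (le_sup_right :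
        W0 N ⊔ N ^ 3 ≤ Submodule.span k {q} ⊔ (W0 N ⊔ N ^ 3)) fun e =>
        hqP (e ▸ le_sup_left (b := W0 N ⊔ N ^ 3) (Submodule.mem_span_singleton_self q)))
      exact (Submodule.eq_of_le_of_finrank_le hle2 (by omega)).ge
  rcases (by omega : L = 2 ∨ 3 ≤ L) with rfl | hL3
  · omega
  obtain ⟨q, hq2, hq⟩ : ∃ q ∈ N ^ 2, N ^ 2 ≤ Submodule.span k {q} ⊔ (W0 N ⊔ N ^ 3) := by
    by_cases hA : N ^ 2 ≤ W0 N ⊔ N ^ 3
    · exact ⟨0, zero_mem _, hA.trans le_sup_right⟩
    obtain ⟨q, hq, hqP⟩ := SetLike.not_le_iff_exists.mp hA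
    refine ⟨q, hq, ?_⟩
    have hP2 : W0 N ⊔ N ^ 3 ≤ N ^ 2 := sup_le W0_le_sq (pow_anti h (by omega) (by omega))
    have hle2 : Submodule.span k {q} ⊔ (W0 N ⊔ N ^ 3) ≤ N ^ 2 :=
      sup_le ((Submodule.span_singleton_le_iff_mem _ _).mpr hq) hP2
    have := Submodule.finrank_lt_finrank_of_lt (lt_of_le_of_ne (le_sup_right :
      W0 N ⊔ N ^ 3 ≤ Submodule.span k {q} ⊔ (W0 N ⊔ N ^ 3)) fun e =>
      hqP (e ▸ le_sup_left (b := W0 N ⊔ N ^ 3) (Submodule.mem_span_singleton_self q)))
    have := Submodule.finrank_mono (sup_le_sup_left (pow_anti h (by omega) (by omega : 3 ≤ L)) (W0 N))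
    exact (Submodule.eq_of_le_of_finrank_le hle2 (by omega)).ge
  set c := x * y - y * x with hc
  have hspan : N ^ 2 ≤ Submodule.span k {q, c} ⊔ N ^ 3 := by
    refine hq.trans (sup_le ?_ (sup_le ((W0_le_of_gen hx hy hxy).trans ?_) le_sup_right))
    · exact le_sup_of_le_left (Submodule.span_mono (by simp))
    · exact sup_le (le_sup_of_le_left (Submodule.span_mono (by simp [hc]))) ((D_le 2).trans le_sup_right)
  have h2 := (Submodule.finrank_mono hspan).trans (finrank_pair_le q c _)
  rcases (by omega : L = 3 ∨ L = 4) with rfl | rfl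
  · omega
  -- the cube
  have hqc : Submodule.span k {q, c} ≤ N ^ 2 := Submodule.span_le.mpr (by
    simp [Set.insert_subset_iff, hq2, hc,
      sub_mem (pow_mul_mem (mem_one_pow hx) (mem_one_pow hy) rfl : x * y ∈ N ^ 2)
        (pow_mul_mem (mem_one_pow hy) (mem_one_pow hx) rfl : y * x ∈ N ^ 2)])
  have hcube : N ^ 3 ≤ Submodule.span k {q * x, q * y, c * x, c * y} ⊔ N ^ 4 := by
    calc N ^ 3 = N ^ 2 * N := pow_succ N 2
      _ ≤ (Submodule.span k {q, c} ⊔ N ^ 3) * (Submodule.span k {x, y} ⊔ N ^ 2) := mul_le_mul' hspan hxy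
      _ ≤ _ := by
        rw [Submodule.sup_mul, Submodule.mul_sup, Submodule.mul_sup]
        refine sup_le (sup_le ?_ ?_) (sup_le ?_ ?_)
        · rw [Submodule.span_mul_span]
          refine le_sup_of_le_left (Submodule.span_mono ?_)
          rintro _ ⟨a, ha, b, hb, rfl⟩
          rcases ha with rfl | rfl <;> rcases hb with rfl | rfl <;> simp
        · refine le_sup_of_le_right ?_
          refine (mul_le_mul' hqc le_rfl).trans_eq ?_
          rw [← pow_add]
        · refine le_sup_of_le_right ((mul_le_mul' le_rfl ?_).trans_eq (pow_succ N 3).symm)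
          exact Submodule.span_le.mpr (by simp [Set.insert_subset_iff, hx, hy])
        · refine le_sup_of_le_right ?_
          rw [← pow_add]
          exact pow_anti h (by omega) (by omega)
  have h3 := (Submodule.finrank_mono hcube).trans (finrank_span_sup_le (N ^ 4))
  have h4 : ({q * x, q * y, c * x, c * y} : Set R).toFinset.card ≤ 4 := by
    simp only [Set.toFinset_insert, Set.toFinset_singleton]
    exact Finset.card_le_four
  omega

end Cfsg.Agent.Char.FiveForms
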