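import Cfsg.Agent.Lib.Char.FiveForms.Tensor

/-!
# Trilinear forms over a plane of bilinear forms in two variables

When slices at both ends of a two-dimensional space of trilinear forms lie in a plane of bilinear forms that is not
symmetric, and no member is cyclically invariant, the plane consists of the forms vanishing on a pair of basis
vectors.
-/

set_option autoImplicit false
set_option linter.unusedSectionVars false
set_option maxHeartbeats 800000

namespace Cfsg.Agent.Char.FiveForms

open Module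

variable {k V : Type*} [Field k] [AddCommGroup V] [Module k V]

/-- The hypotheses. -/
structure Data2 (W : Submodule k (Bil k V)) (U : Submodule k (Tri k V)) : Prop where
  dimV : finrank k V = 2
  dimW : finrank k W = 2
  nsymm : ∃ M ∈ W, ∃ u v, M u v ≠ M v u
  left : ∀ u, (∀ M ∈ W, M u = 0) → u = 0
  right : ∀ v, (∀ M ∈ W, M.flip v = 0) → v = 0
  slice : ∀ T ∈ U, ∀ u, T u ∈ W
  slice' : ∀ T ∈ U, ∀ w, rs T w ∈ W
  cyclic : ∀ T ∈ U, (∀ u v w, T u v w = T v w u) → T = 0
  dimU : 2 ≤ finrank k U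

variable [FiniteDimensional k V] {W : Submodule k (Bil k V)} {U : Submodule k (Tri k V)}

theorem ext_two {X : Type*} [AddCommGroup X] [Module k X] (b : Basis (Fin 2) k V) {f g : V →ₗ[k] X}
    (h0 : f (b 0) = g (b 0)) (h1 : f (b 1) = g (b 1)) : f = g := b.ext fun i => by fin_cases i <;> assumption

/-- A second member of a plane beside a given one. -/
theorem Data2.second (h : Data2 W U) {E : Bil k V} (hE : E ∈ W) (hE0 : E ≠ 0) :
    ∃ M ∈ W, ∀ c : k, ∀ N ∈ W, ∃ u w : k, N = u • E + w • (M - c • E) := by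
  obtain ⟨M, hM, hMn⟩ := SetLike.exists_of_lt (lt_of_le_of_ne ((Submodule.span_singleton_le_iff_mem _ _).mpr hE)
    (fun e => by have := h.dimW; rw [← e, finrank_span_singleton hE0] at this; omega) : Submodule.span k {E} < W)
  refine ⟨M, hM, fun c N hN => ?_⟩
  have hind : LinearIndependent k ![E, M] := (LinearIndependent.pair_iff' hE0).mpr fun a e =>
    hMn (e ▸ Submodule.smul_mem _ a (Submodule.mem_span_singleton_self _))
  have hle : Submodule.span k (Set.range ![E, M]) ≤ W := Submodule.span_le.mpr (by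
    rintro _ ⟨i, rfl⟩
    fin_cases i <;> assumption)
  have heq := Submodule.eq_of_le_of_finrank_le hle (by rw [h.dimW, finrank_span_eq_card hind]; simp)
  rw [← heq, Submodule.mem_span_range_iff_exists_fun] at hN
  obtain ⟨g, rfl⟩ := hN
  exact ⟨g 0 + g 1 * c, g 1, by
    simp [Fin.sum_univ_two, smul_sub, add_smul, mul_smul]⟩

/-- The plane contains a form of rank one. -/
theorem Data2.exists_rank_one [IsAlgClosed k] (h : Data2 W U) :
    ∃ α β : Dual k V, α ≠ 0 ∧ β ≠ 0 ∧ (α.smulRight β : Bil k V) ∈ W := by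
  haveI : Nontrivial V := Module.nontrivial_of_finrank_pos (R := k) (by rw [h.dimV]; omega)
  obtain ⟨E, hE, hE0⟩ := W.exists_mem_ne_zero_of_ne_bot fun e => by
    have := h.dimW; rw [e, finrank_bot] at this; omega
  obtain ⟨M, hM, -⟩ := h.second hE hE0
  obtain ⟨N, hN, hN0, x, hx0, hx⟩ : ∃ N ∈ W, N ≠ 0 ∧ ∃ x, x ≠ 0 ∧ N x = 0 := by
    obtain ⟨M', hM', hMn⟩ := SetLike.exists_of_lt (lt_of_le_of_ne ((Submodule.span_singleton_le_iff_mem _ _).mpr hE)
      (fun e => by have := h.dimW; rw [← e, finrank_span_singleton hE0] at this; omega) :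
        Submodule.span k {E} < W)
    obtain ⟨a, b, hab, x, hx0, hx⟩ := exists_not_injective E M' (by rw [Subspace.dual_finrank_eq])
    refine ⟨a • E + b • M', W.add_mem (W.smul_mem a hE) (W.smul_mem b hM'), fun e => ?_, x, hx0, hx⟩
    rcases eq_or_ne b 0 with hb | hb
    · rw [hb, zero_smul, add_zero, smul_eq_zero] at e
      exact (hab.resolve_right (not_not.mpr hb)) (e.resolve_right hE0)
    · apply hMn
      have : M' = (-(b⁻¹ * a)) • E := by
        have h2 := congrArg (fun F : Bil k V => b⁻¹ • F) e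
        simp only [smul_add, smul_smul, inv_mul_cancel₀ hb, one_smul, smul_zero] at h2
        rw [neg_smul]
        exact eq_neg_of_add_eq_zero_right h2
      rw [this]
      exact Submodule.smul_mem _ _ (Submodule.mem_span_singleton_self _)
  have hker : Submodule.span k {x} ≤ LinearMap.ker N := (Submodule.span_singleton_le_iff_mem _ _).mpr hx
  have h1 := Submodule.finrank_mono hker
  rw [finrank_span_singleton hx0] at h1
  have h2 := LinearMap.finrank_range_add_finrank_ker N
  rw [h.dimV] at h2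
  obtain ⟨⟨β, hβr⟩, hβspan⟩ := finrank_le_one_iff.mp (show finrank k (LinearMap.range N) ≤ 1 by omega)
  choose c hc using fun u => hβspan ⟨N u, ⟨u, rfl⟩⟩
  have hc' : ∀ u, N u = c u • β := fun u => (congrArg Subtype.val (hc u)).symm
  have hβ : β ≠ 0 := fun e => hN0 (LinearMap.ext fun u => by rw [hc', e, smul_zero]; rfl)
  obtain ⟨v, hv⟩ := exists_eq_one hβ
  have hN' : N = ((LinearMap.applyₗ v).comp N).smulRight β := by
    ext u w
    simp [hc', hv]
  exact ⟨(LinearMap.applyₗ v).comp N, β, fun e => hN0 (by rw [hN', e]; ext; simp), hβ, hN' ▸ hN⟩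

/-- A basis with given coordinates. -/
theorem exists_basis {α β : Dual k V} (hV : finrank k V = 2) (hi : LinearIndependent k ![α, β]) :
    ∃ b : Basis (Fin 2) k V, b.coord 0 = α ∧ b.coord 1 = β := by
  let φ : V →ₗ[k] (Fin 2 → k) := LinearMap.pi ![α, β]
  have hφ : Function.Injective φ := by
    refine (injective_iff_map_eq_zero _).mpr fun v hv => ?_
    have htop := hi.span_eq_top_of_card_eq_finrank' (by rw [Subspace.dual_finrank_eq, hV]; rfl)
    refine (Module.forall_dual_apply_eq_zero_iff k v).mp fun f => ?_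
    have hf : f ∈ Submodule.span k (Set.range ![α, β]) := htop ▸ Submodule.mem_top
    induction hf using Submodule.span_induction with
    | mem x hx => obtain ⟨i, rfl⟩ := hx; exact congrFun hv i
    | zero => simp
    | add x y _ _ hx hy => simp [hx, hy]
    | smul c x _ hx => simp [hx]
  let b : Basis (Fin 2) k V :=
    Basis.ofEquivFun (LinearEquiv.ofInjectiveOfFinrankEq φ hφ (by rw [hV]; simp))
  have e : ∀ v, b.equivFun v = φ v := fun v => by
    simp only [b, Basis.equivFun_ofEquivFun]
    rfl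
  refine ⟨b, ?_, ?_⟩ <;> ext v <;> rw [Basis.coord_apply, ← Basis.equivFun_apply, e] <;> rfl

/-- The split case. -/
theorem Data2.split (h : Data2 W U) (b : Basis (Fin 2) k V)
    (hE : ((b.coord 0).smulRight (b.coord 1) : Bil k V) ∈ W) :
    ∀ M ∈ W, M (b 0) (b 0) = 0 ∧ M (b 1) (b 1) = 0 := by
  set E : Bil k V := (b.coord 0).smulRight (b.coord 1) with hEdef
  have hEv : ∀ i j, E (b i) (b j) = (if i = 0 then 1 else 0) * (if j = 1 then 1 else 0) := by
    intro i j
    show b.coord 0 (b i) * b.coord 1 (b j) = _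
    simp [Finsupp.single_apply]
  have hE0 : E ≠ 0 := fun e => by
    have := hEv 0 1
    rw [e] at this
    simp at this
  obtain ⟨M₁, hM₁, hdec⟩ := h.second hE hE0
  set M := M₁ - M₁ (b 0) (b 1) • E with hMdef
  have hMW : M ∈ W := W.sub_mem hM₁ (W.smul_mem _ hE)
  have hM01 : M (b 0) (b 1) = 0 := by simp [hMdef, hEv]
  have hspan : ∀ N ∈ W, ∃ w : k, N (b 0) (b 0) = w * M (b 0) (b 0) ∧ N (b 1) (b 0) = w * M (b 1) (b 0) ∧
      N (b 1) (b 1) = w * M (b 1) (b 1) := by
    intro N hN
    obtain ⟨u, w, rfl⟩ := hdec (M₁ (b 0) (b 1)) N hN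
    exact ⟨w, by simp [hMdef, hEv], by simp [hMdef, hEv], by simp [hMdef, hEv]⟩
  set a := M (b 0) (b 0) with ha
  set β := M (b 1) (b 0) with hβ
  set d := M (b 1) (b 1) with hd
  have hcol : a ≠ 0 ∨ β ≠ 0 := by
    by_contra hh
    push Not at hh
    refine b.ne_zero 0 (h.right (b 0) fun N hN => ext_two b ?_ ?_)
    · obtain ⟨w, e, -, -⟩ := hspan N hN
      simpa [hh.1] using e
    · obtain ⟨w, -, e, -⟩ := hspan N hN
      simpa [hh.2] using e
  have hrow : β ≠ 0 ∨ d ≠ 0 := by
    by_contra hh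
    push Not at hh
    refine b.ne_zero 1 (h.left (b 1) fun N hN => ext_two b ?_ ?_)
    · obtain ⟨w, -, e, -⟩ := hspan N hN
      simpa [hh.1] using e
    · obtain ⟨w, -, -, e⟩ := hspan N hN
      simpa [hh.2] using e
  choose! z hz0 hz1 hz2 using fun (T : Tri k V) (hT : T ∈ U) (l : Fin 2) => hspan _ (h.slice' T hT (b l))
  choose! e he0 he1 he2 using fun (T : Tri k V) (hT : T ∈ U) (i : Fin 2) => hspan _ (h.slice T hT (b i))
  simp only [rs_apply] at hz0 hz1 hz2
  -- all entries
  have hzero : ∀ T ∈ U, T (b 0) (b 0) (b 0) = 0 → T (b 0) (b 0) (b 1) = 0 → T (b 0) (b 1) (b 0) = 0 →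
      T (b 0) (b 1) (b 1) = 0 → T (b 1) (b 0) (b 0) = 0 → T (b 1) (b 0) (b 1) = 0 → T (b 1) (b 1) (b 0) = 0 →
      T (b 1) (b 1) (b 1) = 0 → T = 0 := fun T _ e0 e1 e2 e3 e4 e5 e6 e7 =>
    ext_two b (ext_two b (ext_two b e0 e1) (ext_two b e2 e3)) (ext_two b (ext_two b e4 e5) (ext_two b e6 e7))
  have haz : a = 0 := by
    by_contra ha0
    have he : ∀ T ∈ U, e T 0 = z T 0 := fun T hT => by
      have := (he0 T hT 0).symm.trans (hz0 T hT 0)
      exact mul_right_cancel₀ ha0 this
    let ψ : U →ₗ[k] (Fin 2 → k) :=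
      { toFun := fun T => ![(T : Tri k V) (b 0) (b 0) (b 0), (T : Tri k V) (b 0) (b 0) (b 1)]
        map_add' := fun _ _ => by ext i; fin_cases i <;> simp
        map_smul' := fun _ _ => by ext i; fin_cases i <;> simp }
    have hinj : Function.Injective ψ := by
      refine (injective_iff_map_eq_zero _).mpr ?_
      rintro ⟨T, hT⟩ hk
      have z0 : z T 0 = 0 := by
        have : T (b 0) (b 0) (b 0) = 0 := congrFun hk 0
        rw [hz0 T hT] at this
        exact (mul_eq_zero.mp this).resolve_right ha0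
      have z1 : z T 1 = 0 := by
        have : T (b 0) (b 0) (b 1) = 0 := congrFun hk 1
        rw [hz0 T hT] at this
        exact (mul_eq_zero.mp this).resolve_right ha0
      refine Subtype.ext (hzero T hT ?_ ?_ ?_ ?_ ?_ ?_ ?_ ?_)
      · rw [hz0 T hT, z0, zero_mul]
      · rw [hz0 T hT, z1, zero_mul]
      · rw [he1 T hT, he T hT, z0, zero_mul]
      · rw [he2 T hT, he T hT, z0, zero_mul]
      · rw [hz1 T hT, z0, zero_mul]
      · rw [hz1 T hT, z1, zero_mul]
      · rw [hz2 T hT, z0, zero_mul]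
      · rw [hz2 T hT, z1, zero_mul]
    have hdim : finrank k U = finrank k (Fin 2 → k) :=
      le_antisymm (LinearMap.finrank_le_finrank_of_injective hinj) (by simpa using h.dimU)
    have hsurj := (LinearMap.injective_iff_surjective_of_finrank_eq_finrank hdim).mp hinj
    -- the second unit vector
    obtain ⟨⟨T, hT⟩, hTv⟩ := hsurj ![0, a]
    have t0 : T (b 0) (b 0) (b 0) = 0 := congrFun hTv 0
    have t1 : T (b 0) (b 0) (b 1) = a := congrFun hTv 1
    rw [hz0 T hT] at t0 t1
    have z0 : z T 0 = 0 := (mul_eq_zero.mp t0).resolve_right ha0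
    have z1 : z T 1 = 1 := mul_right_cancel₀ ha0 (by rw [t1, one_mul])
    have e1 : e T 1 = 0 := by
      have := (he0 T hT 1).symm.trans (hz1 T hT 0)
      rw [z0, zero_mul, mul_eq_zero] at this
      exact this.resolve_right ha0
    have hd0 : d = 0 := by
      have := (he2 T hT 1).symm.trans (hz2 T hT 1)
      rw [z1, e1, zero_mul, one_mul] at this
      exact this.symm
    have hβ0 := hrow.resolve_right (not_not.mpr hd0)
    -- the first unit vector
    obtain ⟨⟨S, hS⟩, hSv⟩ := hsurj ![a, 0]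
    have s0 : S (b 0) (b 0) (b 0) = a := congrFun hSv 0
    rw [hz0 S hS] at s0
    have y0 : z S 0 = 1 := mul_right_cancel₀ ha0 (by rw [s0, one_mul])
    have f1 : e S 1 = 0 := by
      have := (he1 S hS 1).symm.trans (hz2 S hS 0)
      rw [hd0, mul_zero, mul_eq_zero] at this
      exact this.resolve_right hβ0
    have := (he0 S hS 1).symm.trans (hz1 S hS 0)
    rw [y0, f1, zero_mul, one_mul] at this
    exact hβ0 this.symm
  have hβ0 : β ≠ 0 := hcol.resolve_left (not_not.mpr haz)
  have hdz : d = 0 := by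
    by_contra hd0
    let ψ : U →ₗ[k] k :=
      ((LinearMap.applyₗ (b 0)).comp ((LinearMap.applyₗ (b 1)).comp (LinearMap.applyₗ (b 0)))).comp U.subtype
    have hinj : Function.Injective ψ := by
      refine (injective_iff_map_eq_zero _).mpr ?_
      rintro ⟨T, hT⟩ hk
      have hk' : T (b 0) (b 1) (b 0) = 0 := hk
      have z0 : z T 0 = 0 := by
        have := (hz1 T hT 0).symm.trans (he0 T hT 1)
        rw [haz, mul_zero, mul_eq_zero] at this
        exact this.resolve_right hβ0
      have e1 : e T 1 = 0 := by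
        have := (he1 T hT 1).symm.trans (hz2 T hT 0)
        rw [z0, zero_mul, mul_eq_zero] at this
        exact this.resolve_right hβ0
      have z1 : z T 1 = 0 := by
        have := (hz2 T hT 1).symm.trans (he2 T hT 1)
        rw [e1, zero_mul, mul_eq_zero] at this
        exact this.resolve_right hd0
      have e0 : e T 0 = 0 := by
        rw [he1 T hT, mul_eq_zero] at hk'
        exact hk'.resolve_right hβ0
      refine Subtype.ext (hzero T hT ?_ ?_ hk' ?_ ?_ ?_ ?_ ?_)
      · rw [hz0 T hT, z0, zero_mul]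
      · rw [hz0 T hT, z1, zero_mul]
      · rw [he2 T hT, e0, zero_mul]
      · rw [hz1 T hT, z0, zero_mul]
      · rw [hz1 T hT, z1, zero_mul]
      · rw [hz2 T hT, z0, zero_mul]
      · rw [hz2 T hT, z1, zero_mul]
    have := LinearMap.finrank_le_finrank_of_injective hinj
    rw [Module.finrank_self] at this
    have := h.dimU
    omega
  intro N hN
  obtain ⟨w, e0, -, e2⟩ := hspan N hN
  exact ⟨by rw [e0, haz, mul_zero], by rw [e2, hdz, mul_zero]⟩

/-- The skew case. -/
theorem Data2.no_skew (h : Data2 W U) (b : Basis (Fin 2) k V) {g : k}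
    (hW : ∀ N ∈ W, N (b 1) (b 1) = 0 ∧ N (b 1) (b 0) = g * N (b 0) (b 1)) : False := by
  have hv : ∀ T ∈ U, T (b 1) (b 1) (b 1) = 0 ∧ T (b 0) (b 1) (b 1) = 0 ∧ T (b 1) (b 0) (b 1) = 0 ∧
      T (b 1) (b 1) (b 0) = 0 ∧ T (b 0) (b 1) (b 0) = g * T (b 0) (b 0) (b 1) ∧
      T (b 1) (b 0) (b 0) = g * T (b 0) (b 1) (b 0) := by
    intro T hT
    have l0 := hW _ (h.slice T hT (b 0))
    have l1 := hW _ (h.slice T hT (b 1))
    have r0 := hW _ (h.slice' T hT (b 0))
    have r1 := hW _ (h.slice' T hT (b 1))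
    simp only [rs_apply] at r0 r1
    exact ⟨l1.1, l0.1, by rw [r1.2, l0.1, mul_zero], r0.1, l0.2, r0.2⟩
  let ψ : U →ₗ[k] (Fin 2 → k) :=
    { toFun := fun T => ![(T : Tri k V) (b 0) (b 0) (b 0), (T : Tri k V) (b 0) (b 0) (b 1)]
      map_add' := fun _ _ => by ext i; fin_cases i <;> simp
      map_smul' := fun _ _ => by ext i; fin_cases i <;> simp }
  have hinj : Function.Injective ψ := by
    refine (injective_iff_map_eq_zero _).mpr ?_
    rintro ⟨T, hT⟩ hk
    have e000 : T (b 0) (b 0) (b 0) = 0 := congrFun hk 0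
    have e001 : T (b 0) (b 0) (b 1) = 0 := congrFun hk 1
    obtain ⟨a1, a2, a3, a4, a5, a6⟩ := hv T hT
    rw [e001, mul_zero] at a5
    rw [a5, mul_zero] at a6
    exact Subtype.ext (ext_two b (ext_two b (ext_two b e000 e001) (ext_two b a5 a2))
      (ext_two b (ext_two b a6 a3) (ext_two b a4 a1)))
  have hdim : finrank k U = finrank k (Fin 2 → k) :=
    le_antisymm (LinearMap.finrank_le_finrank_of_injective hinj) (by simpa using h.dimU)
  obtain ⟨⟨T, hT⟩, hTv⟩ := (LinearMap.injective_iff_surjective_of_finrank_eq_finrank hdim).mp hinj ![1, 0]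
  have t0 : T (b 0) (b 0) (b 0) = 1 := congrFun hTv 0
  have t1 : T (b 0) (b 0) (b 1) = 0 := congrFun hTv 1
  obtain ⟨a1, a2, a3, a4, a5, a6⟩ := hv T hT
  rw [t1, mul_zero] at a5
  rw [a5, mul_zero] at a6
  have hrot : T = rs T := ext_two b
    (ext_two b (ext_two b rfl (t1.trans a5.symm)) (ext_two b (a5.trans a6.symm) (a2.trans a4.symm)))
    (ext_two b (ext_two b (a6.trans t1.symm) (a3.trans a2.symm)) (ext_two b (a4.trans a3.symm) rfl))
  have := h.cyclic T hT fun u v w => by
    calc T u v w = rs T u v w := by rw [← hrot]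
      _ = T v w u := rfl
  rw [this] at t0
  simp at t0

/-- The plane is spanned by the two mixed monomials. -/
theorem Data2.exists_basis [IsAlgClosed k] (h : Data2 W U) :
    ∃ b : Basis (Fin 2) k V, ∀ M ∈ W, M (b 0) (b 0) = 0 ∧ M (b 1) (b 1) = 0 := by
  obtain ⟨α, β, hα, hβ, hN⟩ := h.exists_rank_one
  by_cases hi : LinearIndependent k ![α, β]
  · obtain ⟨b, h0, h1⟩ := FiveForms.exists_basis h.dimV hi
    exact ⟨b, h.split b (by rw [h0, h1]; exact hN)⟩
  -- a symmetric square
  rw [LinearIndependent.pair_iff' hα] at hi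
  push Not at hi
  obtain ⟨c, hc⟩ := hi
  have hc0 : c ≠ 0 := fun e => hβ (by rw [← hc, e, zero_smul])
  have hsq : (α.smulRight α : Bil k V) ∈ W := by
    have := W.smul_mem c⁻¹ hN
    rwa [show c⁻¹ • (α.smulRight β : Bil k V) = α.smulRight α by
      ext u v; simp [← hc]; field_simp] at this
  obtain ⟨γ, hγ⟩ := SetLike.exists_of_lt (lt_of_le_of_ne le_top (fun e => by
    have h1 : finrank k (Submodule.span k {α}) = finrank k (⊤ : Submodule k (Dual k V)) := by rw [e]
    rw [finrank_top, Subspace.dual_finrank_eq, h.dimV, finrank_span_singleton hα] at h1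
    omega) : Submodule.span k {α} < ⊤)
  obtain ⟨b, hb0, hb1⟩ := FiveForms.exists_basis h.dimV ((LinearIndependent.pair_iff' (y := γ) hα).mpr fun a e =>
    hγ.2 (e ▸ Submodule.smul_mem _ a (Submodule.mem_span_singleton_self _)))
  set E : Bil k V := α.smulRight α with hEdef
  have hEv : ∀ i j, E (b i) (b j) = (if i = 0 then 1 else 0) * (if j = 0 then 1 else 0) := by
    intro i j
    show α (b i) * α (b j) = _
    simp [← hb0, Finsupp.single_apply]
  obtain ⟨M₁, hM₁, hdec⟩ := h.second hsq (fun e => by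
    have := hEv 0 0
    rw [e] at this
    simp at this)
  set M := M₁ - M₁ (b 0) (b 0) • E with hMdef
  have hMW : M ∈ W := W.sub_mem hM₁ (W.smul_mem _ hsq)
  have hM00 : M (b 0) (b 0) = 0 := by simp [hMdef, hEv]
  set p := M (b 0) (b 1) with hp
  set q := M (b 1) (b 0) with hq
  set d := M (b 1) (b 1) with hd
  have hne : p ≠ q := by
    intro e
    obtain ⟨N, hNW, u, v, huv⟩ := h.nsymm
    apply huv
    obtain ⟨c₁, c₂, rfl⟩ := hdec (M₁ (b 0) (b 0)) N hNW
    have hMs : M = M.flip := ext_two b (ext_two b rfl e) (ext_two b e.symm rfl)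
    have hM' : ∀ u v, M u v = M v u := fun u v => by
      conv_lhs => rw [hMs]
      rfl
    rw [← hMdef]
    simp only [LinearMap.add_apply, LinearMap.smul_apply, hM' u v]
    rw [show E u v = E v u from mul_comm _ _]
  by_cases hd0 : d = 0
  · -- no diagonal
    by_cases hp0 : p = 0
    · have hq0 : q ≠ 0 := fun e => hne (by rw [hp0, e])
      refine ⟨b.reindex (Equiv.swap 0 1), ?_⟩
      refine h.split _ ?_
      have e : (((b.reindex (Equiv.swap 0 1)).coord 0).smulRight ((b.reindex (Equiv.swap 0 1)).coord 1) :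
          Bil k V) = q⁻¹ • M := by
        refine ext_two b (ext_two b ?_ ?_) (ext_two b ?_ ?_) <;>
          simp [hM00, ← hp, ← hq, ← hd, hp0, hd0, hq0, Finsupp.single_apply]
      rw [e]
      exact W.smul_mem _ hMW
    by_cases hq0 : q = 0
    · refine ⟨b, h.split b ?_⟩
      have e : ((b.coord 0).smulRight (b.coord 1) : Bil k V) = p⁻¹ • M := by
        refine ext_two b (ext_two b ?_ ?_) (ext_two b ?_ ?_) <;>
          simp [hM00, ← hp, ← hq, ← hd, hp0, hd0, hq0]
      rw [e]
      exact W.smul_mem _ hMW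
    exfalso
    refine h.no_skew b (g := q / p) fun N hNW => ?_
    obtain ⟨c₁, c₂, rfl⟩ := hdec (M₁ (b 0) (b 0)) N hNW
    rw [← hMdef]
    constructor
    · simp [hEv, ← hd, hd0]
    · simp [hEv, ← hp, ← hq]
      field_simp
  · -- a second form of rank one
    set δ : Dual k V := q • b.coord 0 + d • b.coord 1 with hδ
    set γ' : Dual k V := (p / d) • b.coord 0 + b.coord 1 with hγ'
    have hR : (γ'.smulRight δ : Bil k V) ∈ W := by
      have e : (γ'.smulRight δ : Bil k V) = M + (p * q / d) • E := by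
        refine ext_two b (ext_two b ?_ ?_) (ext_two b ?_ ?_) <;>
          simp [hγ', hδ, hEv, hM00, ← hp, ← hq, ← hd] <;> field_simp
      rw [e]
      exact W.add_mem hMW (W.smul_mem _ hsq)
    have hind : LinearIndependent k ![γ', δ] := by
      refine LinearIndependent.pair_iff.mpr fun s t hst => ?_
      have h0 := LinearMap.congr_fun hst (b 0)
      have h1 := LinearMap.congr_fun hst (b 1)
      simp [hγ', hδ] at h0 h1
      have hs : s = -t * d := by linear_combination h1
      have : t * (q - p) = 0 := by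
        rw [hs] at h0
        field_simp at h0
        linear_combination h0
      have ht : t = 0 := (mul_eq_zero.mp this).resolve_right (sub_ne_zero.mpr hne.symm)
      exact ⟨by rw [hs, ht, neg_zero, zero_mul], ht⟩
    obtain ⟨b', h0, h1⟩ := FiveForms.exists_basis h.dimV hind
    exact ⟨b', h.split b' (by rw [h0, h1]; exact hR)⟩

end Cfsg.Agent.Char.FiveForms
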