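import Cfsg.Agent.Lib.Char.LocalSymm
import Cfsg.Agent.Lib.Char.FiveForms.Plane

/-!
# The pairings between the layers of a local symmetric algebra

`S n` is the space of functionals on the `n`-th power of the radical given by multiplying by an element of the
complementary power and applying the form.
-/

set_option autoImplicit false
set_option linter.unusedSectionVars false
set_option maxHeartbeats 800000

namespace Cfsg.Agent.Char.FiveForms

open Module
open LocalSymm (Corner)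

variable {k R : Type*} [Field k] [Ring R] [Algebra k R] {f : R} {A N : Submodule k R} {τ : R →ₗ[k] k}

/-- The radical layers: `N` kills nothing beyond the degree `L`. -/
structure Graded (f : R) (A N : Submodule k R) (τ : R →ₗ[k] k) (L : ℕ) (C : Submodule k R) : Prop where
  corner : Corner f A N τ
  top : N ^ (L + 1) = ⊥
  le : C ≤ N
  split : ∀ u ∈ N, ∃ c ∈ C, ∀ z ∈ N ^ (L - 1), τ ((u - c) * z) = 0
  nondeg : ∀ c ∈ C, (∀ z ∈ N ^ (L - 1), τ (c * z) = 0) → c = 0
  ne_zero : ∃ z ∈ N ^ L, τ z ≠ 0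

variable {L : ℕ} {C : Submodule k R}

theorem pow_mul_mem {i j : ℕ} {a b : R} (ha : a ∈ N ^ i) (hb : b ∈ N ^ j) {n : ℕ} (h : i + j = n) :
    a * b ∈ N ^ n := by
  subst h
  rw [pow_add]
  exact Submodule.mul_mem_mul ha hb

theorem mem_one_pow {a : R} (ha : a ∈ N) : a ∈ N ^ 1 := by rwa [pow_one]

theorem Graded.symm (g : Graded f A N τ L C) (a b : R) : τ (a * b) = τ (b * a) := g.corner.symm a b

theorem Graded.eq_zero_of_top (g : Graded f A N τ L C) {i j : ℕ} {a b : R} (ha : a ∈ N ^ i) (hb : b ∈ N ^ j)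
    (h : i + j = L + 1) : a * b = 0 := by
  have := pow_mul_mem ha hb h
  rwa [g.top, Submodule.mem_bot] at this

/-- Split off the part of a generator in `C`. -/
theorem Graded.exists_comp (g : Graded f A N τ L C) {u : R} (hu : u ∈ N) :
    ∃ c ∈ C, (∀ z ∈ N ^ (L - 1), τ (u * z) = τ (c * z)) ∧ ∀ z ∈ N ^ (L - 1), τ (z * u) = τ (z * c) := by
  obtain ⟨c, hc, h⟩ := g.split u hu
  have h1 : ∀ z ∈ N ^ (L - 1), τ (u * z) = τ (c * z) := fun z hz => by
    have := h z hz
    rwa [sub_mul, map_sub, sub_eq_zero] at this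
  exact ⟨c, hc, h1, fun z hz => by rw [g.symm, h1 z hz, g.symm]⟩

/-- The functional of `w` on the `n`-th power. -/
def θ (N : Submodule k R) (τ : R →ₗ[k] k) (n : ℕ) : R →ₗ[k] Dual k ↥(N ^ n) where
  toFun w := (τ.comp (LinearMap.mulRight k w)).comp (N ^ n).subtype
  map_add' a b := by ext; simp [mul_add]
  map_smul' c a := by ext; simp

@[simp] theorem θ_apply (n : ℕ) (w : R) (a : ↥(N ^ n)) : θ N τ n w a = τ (a * w) := rfl

theorem θ_eq_zero {n : ℕ} {w : R} : θ N τ n w = 0 ↔ ∀ a ∈ N ^ n, τ (a * w) = 0 :=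
  ⟨fun h a ha => LinearMap.congr_fun h ⟨a, ha⟩, fun h => LinearMap.ext fun a => h a a.2⟩

/-- The layer. -/
def S (N : Submodule k R) (τ : R →ₗ[k] k) (L n : ℕ) : Submodule k (Dual k ↥(N ^ n)) :=
  (N ^ (L - n)).map (θ N τ n)

theorem finrank_map_le_map {M P Q : Type*} [AddCommGroup M] [Module k M] [AddCommGroup P] [Module k P]
    [AddCommGroup Q] [Module k Q] (X : Submodule k M) [FiniteDimensional k X] (φ : M →ₗ[k] P) (ψ : M →ₗ[k] Q)
    (h : ∀ x ∈ X, ψ x = 0 → φ x = 0) : finrank k (X.map φ) ≤ finrank k (X.map ψ) := by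
  have h1 := LinearMap.finrank_range_add_finrank_ker (φ.comp X.subtype)
  have h2 := LinearMap.finrank_range_add_finrank_ker (ψ.comp X.subtype)
  have h3 : LinearMap.ker (ψ.comp X.subtype) ≤ LinearMap.ker (φ.comp X.subtype) := fun x hx => h x x.2 hx
  have h4 := Submodule.finrank_mono h3
  rw [LinearMap.range_comp, Submodule.range_subtype] at h1 h2
  omega

section Layer

variable [FiniteDimensional k R] (g : Graded f A N τ L C) {n m : ℕ} (hn : 2 ≤ n) (hm : 1 ≤ m)
  (hL : n + 1 + m = L)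
include g hn hm hL

theorem right_faithful {w : R} (hw : w ∈ N ^ m) (h : ∀ η ∈ C, θ N τ n (w * η) = 0) : θ N τ (n + 1) w = 0 := by
  rw [θ_eq_zero]
  intro a ha
  rw [pow_succ'] at ha
  refine Submodule.mul_induction_on ha (fun u hu a' ha' => ?_) fun x y hx hy => ?_
  ·
    obtain ⟨c, hc, hcl, -⟩ := g.exists_comp hu
    rw [mul_assoc, hcl _ (pow_mul_mem ha' hw (by omega)), g.symm, mul_assoc]
    exact θ_eq_zero.mp (h c hc) a' ha'
  · rw [add_mul, map_add, hx, hy, add_zero]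

theorem left_faithful {w : R} (hw : w ∈ N ^ m) (h : ∀ ξ ∈ C, θ N τ n (ξ * w) = 0) : θ N τ (n + 1) w = 0 := by
  rw [θ_eq_zero]
  intro a ha
  rw [pow_succ] at ha
  refine Submodule.mul_induction_on ha (fun a' ha' u hu => ?_) fun x y hx hy => ?_
  ·
    obtain ⟨c, hc, hcl, -⟩ := g.exists_comp hu
    rw [mul_assoc, g.symm, mul_assoc, hcl _ (pow_mul_mem hw ha' (by omega)), ← mul_assoc, g.symm]
    exact θ_eq_zero.mp (h c hc) a' ha'
  · rw [add_mul, map_add, hx, hy, add_zero]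

/-- A generator killing a whole layer on the right vanishes. -/
theorem eq_zero_of_kills_right {η : R} (hη : η ∈ C)
    (h : ∀ x ∈ N ^ (m + 1), ∀ a ∈ N ^ (n - 1), τ (a * (x * η)) = 0) : η = 0 := by
  refine g.nondeg η hη fun z hz => ?_
  rw [show L - 1 = n - 1 + (m + 1) by omega, pow_add] at hz
  refine Submodule.mul_induction_on hz (fun a ha x hx => ?_) fun x y hx hy => ?_
  · rw [g.symm, mul_assoc]; exact h x hx a ha
  · rw [mul_add, map_add, hx, hy, add_zero]

theorem eq_zero_of_kills_left {ξ : R} (hξ : ξ ∈ C)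
    (h : ∀ x ∈ N ^ (m + 1), ∀ a ∈ N ^ (n - 1), τ (a * (ξ * x)) = 0) : ξ = 0 := by
  refine g.nondeg ξ hξ fun z hz => ?_
  rw [show L - 1 = m + 1 + (n - 1) by omega, pow_add] at hz
  refine Submodule.mul_induction_on hz (fun x hx a ha => ?_) fun x y hx hy => ?_
  · rw [← mul_assoc, g.symm]; exact h x hx a ha
  · rw [mul_add, map_add, hx, hy, add_zero]

/-- The kernel of right multiplication on `w`. -/
theorem exists_right_kernel {w : R} (hw : w ∈ N ^ m) :
    ∃ H : Submodule k R, H ≤ C ∧ (∀ η ∈ H, θ N τ n (w * η) = 0) ∧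
      (∀ η ∈ C, θ N τ n (w * η) = 0 → η ∈ H) ∧
      finrank k C ≤ finrank k H + finrank k (C.map ((θ N τ n).comp (LinearMap.mulLeft k w))) := by
  refine ⟨C ⊓ LinearMap.ker ((θ N τ n).comp (LinearMap.mulLeft k w)), inf_le_left,
    fun η hη => hη.2, fun η hη h => ⟨hη, h⟩, ?_⟩
  have h1 := LinearMap.finrank_range_add_finrank_ker (((θ N τ n).comp (LinearMap.mulLeft k w)).comp C.subtype)
  rw [LinearMap.range_comp, Submodule.range_subtype] at h1
  have h2 : finrank k (LinearMap.ker (((θ N τ n).comp (LinearMap.mulLeft k w)).comp C.subtype)) ≤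
      finrank k ↥(C ⊓ LinearMap.ker ((θ N τ n).comp (LinearMap.mulLeft k w))) := by
    rw [← Submodule.finrank_map_subtype_eq C]
    refine Submodule.finrank_mono ?_
    rintro _ ⟨c, hc, rfl⟩
    exact ⟨c.2, hc⟩
  omega

theorem map_right_le {w : R} (hw : w ∈ N ^ m) :
    C.map ((θ N τ n).comp (LinearMap.mulLeft k w)) ≤ S N τ L n := by
  rintro _ ⟨η, hη, rfl⟩
  exact ⟨w * η, pow_mul_mem hw (mem_one_pow (g.le hη)) (by omega), rfl⟩

theorem map_left_le {w : R} (hw : w ∈ N ^ m) :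
    C.map ((θ N τ n).comp (LinearMap.mulRight k w)) ≤ S N τ L n := by
  rintro _ ⟨ξ, hξ, rfl⟩
  exact ⟨ξ * w, pow_mul_mem (mem_one_pow (g.le hξ)) hw (by omega), rfl⟩

theorem exists_left_kernel {w : R} (hw : w ∈ N ^ m) :
    ∃ H : Submodule k R, H ≤ C ∧ (∀ ξ ∈ H, θ N τ n (ξ * w) = 0) ∧
      (∀ ξ ∈ C, θ N τ n (ξ * w) = 0 → ξ ∈ H) ∧
      finrank k C ≤ finrank k H + finrank k (C.map ((θ N τ n).comp (LinearMap.mulRight k w))) := by
  refine ⟨C ⊓ LinearMap.ker ((θ N τ n).comp (LinearMap.mulRight k w)), inf_le_left,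
    fun η hη => hη.2, fun η hη h => ⟨hη, h⟩, ?_⟩
  have h1 := LinearMap.finrank_range_add_finrank_ker (((θ N τ n).comp (LinearMap.mulRight k w)).comp C.subtype)
  rw [LinearMap.range_comp, Submodule.range_subtype] at h1
  have h2 : finrank k (LinearMap.ker (((θ N τ n).comp (LinearMap.mulRight k w)).comp C.subtype)) ≤
      finrank k ↥(C ⊓ LinearMap.ker ((θ N τ n).comp (LinearMap.mulRight k w))) := by
    rw [← Submodule.finrank_map_subtype_eq C]
    refine Submodule.finrank_mono ?_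
    rintro _ ⟨c, hc, rfl⟩
    exact ⟨c.2, hc⟩
  omega

variable (hX : finrank k (S N τ L n) ≤ 2) (hXC : finrank k (S N τ L n) < finrank k C)
include hX hXC

/-- The right multiples of one element lie on a line. -/
theorem right_line {w : R} (hw : w ∈ N ^ m) :
    finrank k (C.map ((θ N τ n).comp (LinearMap.mulLeft k w))) ≤ 1 := by
  by_contra hcon
  have heq : C.map ((θ N τ n).comp (LinearMap.mulLeft k w)) = S N τ L n :=
    Submodule.eq_of_le_of_finrank_le (map_right_le g hn hm hL hw) (by omega)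
  obtain ⟨H, hHC, hH, -, hdim⟩ := exists_left_kernel g hn hm hL hw
  have := Submodule.finrank_mono (map_left_le g hn hm hL hw)
  obtain ⟨ξ, hξ, hξ0⟩ := H.exists_mem_ne_zero_of_ne_bot fun e => by rw [e, finrank_bot] at hdim; omega
  refine hξ0 (eq_zero_of_kills_left g hn hm hL (hHC hξ) fun x hx a ha => ?_)
  have hx' : θ N τ n x ∈ S N τ L n := ⟨x, by rwa [show L - n = m + 1 by omega], rfl⟩
  rw [← heq] at hx'
  obtain ⟨η, hη, e⟩ := hx'
  have hmem : a * ξ ∈ N ^ n := pow_mul_mem ha (mem_one_pow (g.le (hHC hξ))) (by omega)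
  have e' : τ (a * ξ * x) = τ (a * ξ * (w * η)) := (LinearMap.congr_fun e ⟨_, hmem⟩).symm
  rw [← mul_assoc, e', show a * ξ * (w * η) = a * (ξ * w) * η by noncomm_ring, g.symm, ← mul_assoc]
  exact θ_eq_zero.mp (hH ξ hξ) (η * a) (pow_mul_mem (mem_one_pow (g.le hη)) ha (by omega))

theorem left_line {w : R} (hw : w ∈ N ^ m) :
    finrank k (C.map ((θ N τ n).comp (LinearMap.mulRight k w))) ≤ 1 := by
  by_contra hcon
  have heq : C.map ((θ N τ n).comp (LinearMap.mulRight k w)) = S N τ L n :=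
    Submodule.eq_of_le_of_finrank_le (map_left_le g hn hm hL hw) (by omega)
  obtain ⟨H, hHC, hH, -, hdim⟩ := exists_right_kernel g hn hm hL hw
  have := Submodule.finrank_mono (map_right_le g hn hm hL hw)
  obtain ⟨η, hη, hη0⟩ := H.exists_mem_ne_zero_of_ne_bot fun e => by rw [e, finrank_bot] at hdim; omega
  refine hη0 (eq_zero_of_kills_right g hn hm hL (hHC hη) fun x hx a ha => ?_)
  have hx' : θ N τ n x ∈ S N τ L n := ⟨x, by rwa [show L - n = m + 1 by omega], rfl⟩
  rw [← heq] at hx'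
  obtain ⟨ξ, hξ, e⟩ := hx'
  have hmem : η * a ∈ N ^ n := pow_mul_mem (mem_one_pow (g.le (hHC hη))) ha (by omega)
  have e' : τ (η * a * x) = τ (η * a * (ξ * w)) := (LinearMap.congr_fun e ⟨_, hmem⟩).symm
  rw [← mul_assoc, g.symm, ← mul_assoc, e', show η * a * (ξ * w) = η * (a * ξ * w) by noncomm_ring, g.symm,
    mul_assoc (a * ξ) w η]
  exact θ_eq_zero.mp (hH η hη) (a * ξ) (pow_mul_mem ha (mem_one_pow (g.le hξ)) (by omega))

/-- Left multiples of different elements lie on one line. -/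
theorem left_common {w w' ξ ξ' : R} (hw : w ∈ N ^ m) (hw' : w' ∈ N ^ m) (hξ : ξ ∈ C) (hξ' : ξ' ∈ C)
    (h0 : θ N τ n (ξ * w) ≠ 0) : ∃ c : k, θ N τ n (ξ' * w') = c • θ N τ n (ξ * w) := by
  by_contra hcon
  push Not at hcon
  have hind : LinearIndependent k ![θ N τ n (ξ * w), θ N τ n (ξ' * w')] :=
    (LinearIndependent.pair_iff' h0).mpr fun c e => hcon c e.symm
  have hle : Submodule.span k (Set.range ![θ N τ n (ξ * w), θ N τ n (ξ' * w')]) ≤ S N τ L n :=
    Submodule.span_le.mpr (by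
      rintro _ ⟨i, rfl⟩
      fin_cases i
      · exact map_left_le g hn hm hL hw ⟨ξ, hξ, rfl⟩
      · exact map_left_le g hn hm hL hw' ⟨ξ', hξ', rfl⟩)
  have h2 : finrank k (Submodule.span k (Set.range ![θ N τ n (ξ * w), θ N τ n (ξ' * w')])) = 2 := by
    rw [finrank_span_eq_card hind]; simp
  have heq := Submodule.eq_of_le_of_finrank_le hle (by omega)
  obtain ⟨H, hHC, hH, -, hd⟩ := exists_right_kernel g hn hm hL hw
  obtain ⟨H', hHC', hH', -, hd'⟩ := exists_right_kernel g hn hm hL hw'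
  have l1 := right_line g hn hm hL hX hXC hw
  have l2 := right_line g hn hm hL hX hXC hw'
  have hsup := Submodule.finrank_sup_add_finrank_inf_eq H H'
  have h3 := Submodule.finrank_mono (sup_le hHC hHC')
  have h4 := Submodule.finrank_mono hle
  obtain ⟨η, hη, hη0⟩ := (H ⊓ H').exists_mem_ne_zero_of_ne_bot fun e => by rw [e, finrank_bot] at hsup; omega
  have hηC := hHC hη.1
  refine hη0 (eq_zero_of_kills_right g hn hm hL hηC fun x hx a ha => ?_)
  have hηN := mem_one_pow (g.le hηC)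
  have hx' : θ N τ n x ∈ S N τ L n := ⟨x, by rwa [show L - n = m + 1 by omega], rfl⟩
  rw [← heq, Submodule.mem_span_range_iff_exists_fun] at hx'
  obtain ⟨c, e⟩ := hx'
  simp [Fin.sum_univ_two] at e
  have hmem : η * a ∈ N ^ n := pow_mul_mem hηN ha (by omega)
  have e' : c 0 * τ (η * a * (ξ * w)) + c 1 * τ (η * a * (ξ' * w')) = τ (η * a * x) :=
    LinearMap.congr_fun e ⟨_, hmem⟩
  have k1 : ∀ {ζ v : R}, ζ ∈ C → θ N τ n (v * η) = 0 → τ (η * a * (ζ * v)) = 0 := fun {ζ v} hζ hv => by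
    rw [show η * a * (ζ * v) = η * (a * ζ * v) by noncomm_ring, g.symm, mul_assoc (a * ζ) v η]
    exact θ_eq_zero.mp hv (a * ζ) (pow_mul_mem ha (mem_one_pow (g.le hζ)) (by omega))
  rw [k1 hξ (hH η hη.1), k1 hξ' (hH' η hη.2), mul_zero, mul_zero, add_zero] at e'
  rw [← mul_assoc, g.symm, ← mul_assoc, ← e']

theorem right_common {w w' η η' : R} (hw : w ∈ N ^ m) (hw' : w' ∈ N ^ m) (hη : η ∈ C) (hη' : η' ∈ C)
    (h0 : θ N τ n (w * η) ≠ 0) : ∃ c : k, θ N τ n (w' * η') = c • θ N τ n (w * η) := by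
  by_contra hcon
  push Not at hcon
  have hind : LinearIndependent k ![θ N τ n (w * η), θ N τ n (w' * η')] :=
    (LinearIndependent.pair_iff' h0).mpr fun c e => hcon c e.symm
  have hle : Submodule.span k (Set.range ![θ N τ n (w * η), θ N τ n (w' * η')]) ≤ S N τ L n :=
    Submodule.span_le.mpr (by
      rintro _ ⟨i, rfl⟩
      fin_cases i
      · exact map_right_le g hn hm hL hw ⟨η, hη, rfl⟩
      · exact map_right_le g hn hm hL hw' ⟨η', hη', rfl⟩)
  have h2 : finrank k (Submodule.span k (Set.range ![θ N τ n (w * η), θ N τ n (w' * η')])) = 2 := by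
    rw [finrank_span_eq_card hind]; simp
  have heq := Submodule.eq_of_le_of_finrank_le hle (by omega)
  obtain ⟨H, hHC, hH, -, hd⟩ := exists_left_kernel g hn hm hL hw
  obtain ⟨H', hHC', hH', -, hd'⟩ := exists_left_kernel g hn hm hL hw'
  have l1 := left_line g hn hm hL hX hXC hw
  have l2 := left_line g hn hm hL hX hXC hw'
  have hsup := Submodule.finrank_sup_add_finrank_inf_eq H H'
  have h3 := Submodule.finrank_mono (sup_le hHC hHC')
  have h4 := Submodule.finrank_mono hle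
  obtain ⟨ξ, hξ, hξ0⟩ := (H ⊓ H').exists_mem_ne_zero_of_ne_bot fun e => by rw [e, finrank_bot] at hsup; omega
  have hξC := hHC hξ.1
  refine hξ0 (eq_zero_of_kills_left g hn hm hL hξC fun x hx a ha => ?_)
  have hξN := mem_one_pow (g.le hξC)
  have hx' : θ N τ n x ∈ S N τ L n := ⟨x, by rwa [show L - n = m + 1 by omega], rfl⟩
  rw [← heq, Submodule.mem_span_range_iff_exists_fun] at hx'
  obtain ⟨c, e⟩ := hx'
  simp [Fin.sum_univ_two] at e
  have hmem : a * ξ ∈ N ^ n := pow_mul_mem ha hξN (by omega)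
  have e' : c 0 * τ (a * ξ * (w * η)) + c 1 * τ (a * ξ * (w' * η')) = τ (a * ξ * x) :=
    LinearMap.congr_fun e ⟨_, hmem⟩
  have k1 : ∀ {ζ v : R}, ζ ∈ C → θ N τ n (ξ * v) = 0 → τ (a * ξ * (v * ζ)) = 0 := fun {ζ v} hζ hv => by
    rw [show a * ξ * (v * ζ) = a * (ξ * v) * ζ by noncomm_ring, g.symm, ← mul_assoc]
    exact θ_eq_zero.mp hv (ζ * a) (pow_mul_mem (mem_one_pow (g.le hζ)) ha (by omega))
  rw [k1 hη (hH ξ hξ.1), k1 hη' (hH' ξ hξ.2), mul_zero, mul_zero, add_zero] at e'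
  rw [← mul_assoc, ← e']

/-- A layer smaller than `C` is followed by a line. -/
theorem step : finrank k (S N τ L (n + 1)) ≤ 1 := by
  by_contra hcon
  obtain ⟨f₀, hf₀, hf₀0⟩ := (S N τ L (n + 1)).exists_mem_ne_zero_of_ne_bot
    fun e => hcon (by rw [e, finrank_bot]; exact zero_le_one)
  obtain ⟨w₀, hw₀, rfl⟩ := hf₀
  have hw₀' : w₀ ∈ N ^ m := by rwa [show L - (n + 1) = m by omega] at hw₀
  obtain ⟨η₀, hη₀, hη₀0⟩ : ∃ η ∈ C, θ N τ n (w₀ * η) ≠ 0 := by
    by_contra hh
    push Not at hh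
    exact hf₀0 (right_faithful g hn hm hL hw₀' hh)
  -- multiplication by `η₀` on the functionals
  have hmem : ∀ a ∈ N ^ n, η₀ * a ∈ N ^ (n + 1) := fun a ha =>
    pow_mul_mem (mem_one_pow (g.le hη₀)) ha (by omega)
  let ρ : Dual k ↥(N ^ (n + 1)) →ₗ[k] Dual k ↥(N ^ n) :=
    LinearMap.dualMap (((LinearMap.mulLeft k η₀).comp (N ^ n).subtype).codRestrict (N ^ (n + 1)) fun a =>
      hmem a a.2)
  have hρ : ∀ w, ρ (θ N τ (n + 1) w) = θ N τ n (w * η₀) := fun w => LinearMap.ext fun a => by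
    show τ (η₀ * a * w) = τ (a * (w * η₀))
    rw [mul_assoc, g.symm, mul_assoc]
  have hinj : ∀ w ∈ N ^ m, θ N τ n (w * η₀) = 0 → θ N τ (n + 1) w = 0 := by
    intro w hw hz
    by_contra hne
    obtain ⟨ξ₀, hξ₀, hξ₀0⟩ : ∃ ξ ∈ C, θ N τ n (ξ * w₀) ≠ 0 := by
      by_contra hh
      push Not at hh
      exact hf₀0 (left_faithful g hn hm hL hw₀' hh)
    obtain ⟨ξ, hξ, hξ0⟩ : ∃ ξ ∈ C, θ N τ n (ξ * w) ≠ 0 := by
      by_contra hh
      push Not at hh
      exact hne (left_faithful g hn hm hL hw hh)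
    obtain ⟨η', hη', hη'0⟩ : ∃ η ∈ C, θ N τ n (w * η) ≠ 0 := by
      by_contra hh
      push Not at hh
      exact hne (right_faithful g hn hm hL hw hh)
    -- the two kernels agree
    obtain ⟨c, hc⟩ := left_common g hn hm hL hX hXC hw hw₀' hξ hξ₀ hξ0
    obtain ⟨H, hHC, hH, hH2, hd⟩ := exists_right_kernel g hn hm hL hw
    obtain ⟨H₀, hH₀C, hH₀, hH₀2, hd₀⟩ := exists_right_kernel g hn hm hL hw₀'
    have l1 := right_line g hn hm hL hX hXC hw
    have l2 := right_line g hn hm hL hX hXC hw₀'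
    have hlt1 : finrank k H < finrank k C := Submodule.finrank_lt_finrank_of_lt
      (lt_of_le_of_ne hHC fun e => hη'0 (hH η' (e ▸ hη')))
    have hlt2 : finrank k H₀ < finrank k C := Submodule.finrank_lt_finrank_of_lt
      (lt_of_le_of_ne hH₀C fun e => hη₀0 (hH₀ η₀ (e ▸ hη₀)))
    have htop : H ⊔ H₀ = C := by
      refine Submodule.eq_of_le_of_finrank_le (sup_le hHC hH₀C) ?_
      have hlt : H₀ < H ⊔ H₀ := lt_of_le_of_ne le_sup_right fun e =>
        hη₀0 (hH₀ η₀ (e ▸ le_sup_left (b := H₀) (hH2 η₀ hη₀ hz)))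
      have := Submodule.finrank_lt_finrank_of_lt hlt
      omega
    -- so a multiple of `w₀` is killed from both
    refine hξ₀0 (θ_eq_zero.mpr fun a ha => ?_)
    rw [show n = 1 + (n - 1) by omega, pow_add, pow_one] at ha
    refine Submodule.mul_induction_on ha (fun u hu a' ha' => ?_) fun x y hx hy => ?_
    ·
      obtain ⟨v, hv, hvl, -⟩ := g.exists_comp hu
      rw [mul_assoc, hvl _ (pow_mul_mem ha' (pow_mul_mem (mem_one_pow (g.le hξ₀)) hw₀' rfl) (by omega))]
      rw [← htop, Submodule.mem_sup] at hv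
      obtain ⟨v₁, hv₁, v₂, hv₂, rfl⟩ := hv
      rw [add_mul, map_add]
      have e1 : τ (v₂ * (a' * (ξ₀ * w₀))) = 0 := by
        rw [g.symm, show a' * (ξ₀ * w₀) * v₂ = a' * ξ₀ * (w₀ * v₂) by noncomm_ring]
        exact θ_eq_zero.mp (hH₀ v₂ hv₂) _ (pow_mul_mem ha' (mem_one_pow (g.le hξ₀)) (by omega))
      have e2 : τ (v₁ * (a' * (ξ₀ * w₀))) = 0 := by
        have h' : τ (v₁ * a' * (ξ₀ * w₀)) = c * τ (v₁ * a' * (ξ * w)) :=
          LinearMap.congr_fun hc ⟨_, pow_mul_mem (mem_one_pow (g.le (hHC hv₁))) ha' (by omega)⟩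
        rw [← mul_assoc, h', show v₁ * a' * (ξ * w) = v₁ * (a' * ξ * w) by noncomm_ring, g.symm,
          mul_assoc (a' * ξ) w v₁,
          θ_eq_zero.mp (hH v₁ hv₁) _ (pow_mul_mem ha' (mem_one_pow (g.le hξ)) (by omega)), mul_zero]
      rw [e1, e2, add_zero]
    · rw [add_mul, map_add, hx, hy, add_zero]
  have hline : (S N τ L (n + 1)).map ρ ≤ Submodule.span k {θ N τ n (w₀ * η₀)} := by
    rintro _ ⟨_, ⟨w, hw, rfl⟩, rfl⟩
    rw [show L - (n + 1) = m by omega] at hw
    obtain ⟨c, hc⟩ := right_common g hn hm hL hX hXC hw₀' hw hη₀ hη₀ hη₀0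
    rw [hρ, hc]
    exact Submodule.smul_mem _ c (Submodule.mem_span_singleton_self _)
  have h1 := finrank_map_le_map (S N τ L (n + 1)) LinearMap.id ρ (by
    rintro _ ⟨w, hw, rfl⟩ hz
    rw [hρ] at hz
    exact hinj w (by rwa [show L - (n + 1) = m by omega] at hw) hz)
  rw [Submodule.map_id] at h1
  have h2 := Submodule.finrank_mono hline
  rw [finrank_span_singleton hη₀0] at h2
  omega

end Layer

/-- Every middle layer is as large as `C`, up to three. -/
theorem Graded.layer [FiniteDimensional k R] (g : Graded f A N τ L C) (hC : 2 ≤ finrank k C) {n : ℕ} (hn : 2 ≤ n)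
    (hnL : n + 2 ≤ L) (h2 : finrank k (S N τ L n) ≤ 2) : finrank k C ≤ finrank k (S N τ L n) := by
  by_contra hcon
  have hlast : finrank k C ≤ finrank k (S N τ L (L - 1)) := by
    have h1 : finrank k (C.map (θ N τ (L - 1))) ≤ finrank k (S N τ L (L - 1)) := by
      refine Submodule.finrank_mono (Submodule.map_mono ?_)
      rw [show L - (L - 1) = 1 by omega, pow_one]
      exact g.le
    have h3 := finrank_map_le_map C LinearMap.id (θ N τ (L - 1)) (fun c hc hz => g.nondeg c hc fun z hz' => by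
      rw [g.symm]; exact θ_eq_zero.mp hz z hz')
    rw [Submodule.map_id] at h3
    omega
  have hind : ∀ j, n + 1 + j ≤ L - 1 → finrank k (S N τ L (n + 1 + j)) ≤ 1 := by
    intro j
    induction j with
    | zero =>
      intro hj
      exact step g hn (m := L - (n + 1)) (by omega) (by omega) h2 (by omega)
    | succ j ih =>
      intro hj
      have := ih (by omega)
      exact step g (n := n + 1 + j) (by omega) (m := L - (n + 1 + j + 1)) (by omega) (by omega) (by omega) (by omega)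
  have := hind (L - 1 - (n + 1)) (by omega)
  rw [show n + 1 + (L - 1 - (n + 1)) = L - 1 by omega] at this
  omega

end Cfsg.Agent.Char.FiveForms
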