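import Mathlib

/-!
# Trilinear forms whose slices lie in a small space of bilinear forms

`W` is a space of bilinear forms on a space of dimension three containing no nonzero symmetric form, and `U` a
space of trilinear forms all of whose slices at the first and at the last place lie in `W`. If `U` has dimension
at least three, it contains a nonzero cyclically invariant form.
-/

set_option autoImplicit false
set_option maxHeartbeats 800000
set_option linter.unusedSectionVars false

namespace Cfsg.Agent.Char.FiveForms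

open Module

variable {k V : Type*} [Field k] [AddCommGroup V] [Module k V]

/-- Bilinear forms. -/
abbrev Bil (k V : Type*) [Field k] [AddCommGroup V] [Module k V] := V →ₗ[k] V →ₗ[k] k

/-- Trilinear forms. -/
abbrev Tri (k V : Type*) [Field k] [AddCommGroup V] [Module k V] := V →ₗ[k] V →ₗ[k] V →ₗ[k] k

instance dualGroup : AddCommGroup (V →ₗ[k] k) := LinearMap.addCommGroup

instance bilGroup : AddCommGroup (Bil k V) := LinearMap.addCommGroup

instance triGroup : AddCommGroup (Tri k V) := LinearMap.addCommGroup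

/-- The slice at the last place. -/
def rs (T : Tri k V) : Tri k V where
  toFun w := T.compr₂ (LinearMap.applyₗ w)
  map_add' a b := by ext u v; simp
  map_smul' c a := by ext u v; simp

@[simp] theorem rs_apply (T : Tri k V) (u v w : V) : rs T w u v = T u v w := rfl

/-- The reversed form. -/
def rev : Tri k V →ₗ[k] Tri k V where
  toFun T := (LinearMap.lflip : Bil k V ≃ₗ[k] Bil k V).toLinearMap.comp (rs T)
  map_add' a b := by ext u v w; simp
  map_smul' c a := by ext u v w; simp

@[simp] theorem rev_apply (T : Tri k V) (u v w : V) : rev T u v w = T w v u := rfl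

theorem rev_rev (T : Tri k V) : rev (rev T) = T := by ext; simp

theorem rev_injective : Function.Injective (rev : Tri k V →ₗ[k] Tri k V) :=
  fun a b h => by rw [← rev_rev a, h, rev_rev]

/-- In a pencil of maps to a space no larger than the source some member is not injective. -/
theorem exists_not_injective [IsAlgClosed k] {X Y : Type*} [AddCommGroup X] [Module k X] [AddCommGroup Y]
    [Module k Y] [FiniteDimensional k X] [FiniteDimensional k Y] [Nontrivial X] (f g : X →ₗ[k] Y)
    (h : finrank k Y ≤ finrank k X) :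
    ∃ a b : k, (a ≠ 0 ∨ b ≠ 0) ∧ ∃ x : X, x ≠ 0 ∧ a • f x + b • g x = 0 := by
  by_cases hg : Function.Injective g
  · have hf : finrank k X = finrank k Y := le_antisymm (LinearMap.finrank_le_finrank_of_injective hg) h
    set e := LinearEquiv.ofInjectiveOfFinrankEq g hg hf with he
    obtain ⟨c, hc⟩ := Module.End.exists_eigenvalue (e.symm.toLinearMap.comp f)
    obtain ⟨x, hx⟩ := hc.exists_hasEigenvector
    refine ⟨1, -c, Or.inl one_ne_zero, x, hx.2, ?_⟩
    have h1 := congrArg e hx.apply_eq_smul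
    rw [map_smul, LinearMap.comp_apply, LinearEquiv.coe_coe, LinearEquiv.apply_symm_apply] at h1
    rw [h1, one_smul, neg_smul]
    exact add_neg_cancel _
  · rw [← LinearMap.ker_eq_bot, ← ne_eq, Submodule.ne_bot_iff] at hg
    obtain ⟨x, hx, hx0⟩ := hg
    exact ⟨0, 1, Or.inr one_ne_zero, x, hx0, by rw [zero_smul, one_smul, LinearMap.mem_ker.mp hx, zero_add]⟩

/-- The hypotheses. -/
structure Data (W : Submodule k (Bil k V)) (U : Submodule k (Tri k V)) : Prop where
  dimV : finrank k V = 3
  dimW : 3 ≤ finrank k W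
  symm : ∀ M ∈ W, (∀ u v, M u v = M v u) → M = 0
  left : ∀ u, (∀ M ∈ W, M u = 0) → u = 0
  right : ∀ v, (∀ M ∈ W, M.flip v = 0) → v = 0
  slice : ∀ T ∈ U, ∀ u, T u ∈ W
  slice' : ∀ T ∈ U, ∀ w, rs T w ∈ W
  cyclic : ∀ T ∈ U, (∀ u v w, T u v w = T v w u) → T = 0
  dimU : 3 ≤ finrank k U

variable [FiniteDimensional k V] {W : Submodule k (Bil k V)} {U : Submodule k (Tri k V)}

theorem Data.flip (h : Data W U) :
    Data (W.map (LinearMap.lflip : Bil k V ≃ₗ[k] Bil k V).toLinearMap) (U.map rev) where
  dimV := h.dimV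
  dimW := (LinearEquiv.finrank_map_eq (LinearMap.lflip : Bil k V ≃ₗ[k] Bil k V) W).ge.trans' h.dimW
  symm := by
    rintro _ ⟨M, hM, rfl⟩ hs
    rw [h.symm M hM fun u v => (hs v u), map_zero]
  left u hu := h.right u fun M hM => hu _ ⟨M, hM, rfl⟩
  right v hv := h.left v fun M hM => hv _ ⟨M, hM, rfl⟩
  slice := by
    rintro _ ⟨T, hT, rfl⟩ u
    exact ⟨rs T u, h.slice' T hT u, rfl⟩
  slice' := by
    rintro _ ⟨T, hT, rfl⟩ w
    exact ⟨T w, h.slice T hT w, by ext; simp⟩
  cyclic := by
    rintro _ ⟨T, hT, rfl⟩ hc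
    rw [h.cyclic T hT fun u v w => ?_, map_zero]
    have e1 := hc w v u
    have e2 := hc v u w
    simp only [rev_apply] at e1 e2
    exact e1.trans e2
  dimU := by
    rw [← LinearEquiv.finrank_eq (Submodule.equivMapOfInjective rev rev_injective U)]
    exact h.dimU

theorem Data.finrank_W (h : Data W U) : finrank k W = 3 := by
  let b := Module.finBasisOfFinrankEq k V h.dimV
  let φ : Bil k V →ₗ[k] (Fin 3 → k) :=
    { toFun := fun M => ![M (b 0) (b 1) - M (b 1) (b 0), M (b 0) (b 2) - M (b 2) (b 0),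
        M (b 1) (b 2) - M (b 2) (b 1)]
      map_add' := fun M N => by ext i; fin_cases i <;> simp <;> ring
      map_smul' := fun c M => by ext i; fin_cases i <;> simp <;> ring }
  refine le_antisymm ?_ h.dimW
  have hinj : Function.Injective (φ.comp W.subtype) := by
    refine (injective_iff_map_eq_zero _).mpr ?_
    rintro ⟨M, hM⟩ hz
    have hz' : φ M = 0 := hz
    have h0 := congrFun hz' 0
    have h1 := congrFun hz' 1
    have h2 := congrFun hz' 2
    simp [φ, sub_eq_zero] at h0 h1 h2
    refine Subtype.ext (h.symm M hM ?_)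
    have : M = M.flip := b.ext fun i => b.ext fun j => by
      fin_cases i <;> fin_cases j <;> simp [h0, h1, h2]
    intro u v
    conv_lhs => rw [this]
    rfl
  simpa using LinearMap.finrank_le_finrank_of_injective hinj

theorem rank_one_eq {α β : Dual k V} : ∀ u v, (α.smulRight β : Bil k V) u v = α u * β v := fun _ _ => rfl

theorem exists_eq_one {β : Dual k V} (hβ : β ≠ 0) : ∃ w, β w = 1 := by
  obtain ⟨w, hw⟩ : ∃ w, β w ≠ 0 := by
    by_contra hh
    push Not at hh
    exact hβ (LinearMap.ext hh)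
  exact ⟨(β w)⁻¹ • w, by rw [map_smul, smul_eq_mul, inv_mul_cancel₀ hw]⟩

/-- Two independent rank one forms with the same first factor are impossible. -/
theorem Data.two_row (h : Data W U) {α p q : Dual k V} (hα : α ≠ 0) (hpq : LinearIndependent k ![p, q])
    (hp : (α.smulRight p : Bil k V) ∈ W) (hq : (α.smulRight q : Bil k V) ∈ W) : False := by
  classical
  set A : Submodule k (Bil k V) := Submodule.span k (Set.range ![(α.smulRight p : Bil k V), α.smulRight q])
  have hAW : A ≤ W := Submodule.span_le.mpr (by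
    rintro _ ⟨i, rfl⟩
    fin_cases i <;> assumption)
  have hA : ∀ N ∈ A, ∀ u, α u = 0 → N u = 0 := by
    intro N hN u hu
    induction hN using Submodule.span_induction with
    | mem x hx => obtain ⟨i, rfl⟩ := hx; fin_cases i <;> simp [LinearMap.smulRight_apply, hu]
    | zero => simp
    | add x y _ _ hx hy => simp [hx, hy]
    | smul c x _ hx => simp [hx]
  obtain ⟨a, ha⟩ := exists_eq_one hα
  have hA2 : finrank k A = 2 := by
    rw [finrank_span_eq_card]
    · simp
    · refine LinearIndependent.pair_iff.mpr fun s t hst => ?_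
      have := LinearMap.congr_fun hst a
      simp [LinearMap.smulRight_apply, ha] at this
      exact LinearIndependent.pair_iff.mp hpq s t this
  obtain ⟨M, hM, hMA⟩ := SetLike.exists_of_lt
    (lt_of_le_of_ne hAW fun e => by have := h.finrank_W; rw [← e, hA2] at this; omega : A < W)
  have hdec : ∀ N ∈ W, ∃ z : k, N - z • M ∈ A := by
    intro N hN
    have htop : Submodule.span k {M} ⊔ A = W := by
      have hle : Submodule.span k {M} ⊔ A ≤ W := sup_le ((Submodule.span_singleton_le_iff_mem _ _).mpr hM) hAW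
      refine Submodule.eq_of_le_of_finrank_le hle ?_
      have : A < Submodule.span k {M} ⊔ A := lt_of_le_of_ne le_sup_right fun e =>
        hMA (e ▸ le_sup_left (b := A) (Submodule.mem_span_singleton_self M))
      have := Submodule.finrank_lt_finrank_of_lt this
      rw [h.finrank_W]
      omega
    rw [← htop, Submodule.mem_sup] at hN
    obtain ⟨_, hx, y, hy, rfl⟩ := hN
    obtain ⟨z, rfl⟩ := Submodule.mem_span_singleton.mp hx
    exact ⟨z, by rwa [show z • M + y - z • M = y by abel]⟩
  have hMinj : ∀ u, α u = 0 → M u = 0 → u = 0 := fun u hu hMu => h.left u fun N hN => by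
    obtain ⟨z, hz⟩ := hdec N hN
    have := hA _ hz u hu
    rwa [LinearMap.sub_apply, LinearMap.smul_apply, hMu, smul_zero, sub_zero] at this
  have hker : 2 ≤ finrank k (LinearMap.ker α) := by
    have := LinearMap.finrank_range_add_finrank_ker α
    have h2 := Submodule.finrank_le (LinearMap.range α)
    rw [Module.finrank_self] at h2
    rw [h.dimV] at this
    omega
  -- every member of `U` vanishes on the kernel of `α` at the first place
  have hvan : ∀ T ∈ U, ∀ u, α u = 0 → T u = 0 := by
    intro T hT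
    by_contra hcon
    push Not at hcon
    obtain ⟨u₀, hu₀, hT₀⟩ := hcon
    choose z hz using fun w => hdec (rs T w) (h.slice' T hT w)
    have hval : ∀ u, α u = 0 → ∀ v w, T u v w = z w * M u v := fun u hu v w => by
      have := LinearMap.congr_fun (hA _ (hz w) u hu) v
      simp at this
      linear_combination this
    obtain ⟨w₀, hw₀⟩ : ∃ w₀, z w₀ ≠ 0 := by
      by_contra hh
      push Not at hh
      exact hT₀ (LinearMap.ext fun v => LinearMap.ext fun w => by rw [hval u₀ hu₀, hh, zero_mul]; rfl)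
    have hzero : ∀ u, α u = 0 → ∀ v, α v = 0 → M u v = 0 := by
      intro u hu
      obtain ⟨c, hc⟩ := hdec (T u) (h.slice T hT u)
      have hrow : ∀ v, α v = 0 → ∀ w, z w * M u v = c * M v w := fun v hv w => by
        have := LinearMap.congr_fun (hA _ hc v hv) w
        simp [hval u hu] at this
        linear_combination this
      obtain ⟨v₁, hv₁, hv₁0, hMv₁⟩ : ∃ v₁, α v₁ = 0 ∧ v₁ ≠ 0 ∧ M u v₁ = 0 := by
        let g := (M u).comp (LinearMap.ker α).subtype
        have h1 := LinearMap.finrank_range_add_finrank_ker g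
        have h2 := Submodule.finrank_le (LinearMap.range g)
        rw [Module.finrank_self] at h2
        obtain ⟨v, hv, hv0⟩ := (LinearMap.ker g).exists_mem_ne_zero_of_ne_bot fun e => by
          rw [e, finrank_bot] at h1
          omega
        exact ⟨v, v.2, fun e => hv0 (Subtype.ext e), hv⟩
      have hc0 : c = 0 := by
        by_contra hc0
        refine hv₁0 (hMinj v₁ hv₁ (LinearMap.ext fun w => ?_))
        have := hrow v₁ hv₁ w
        rw [hMv₁, mul_zero, eq_comm, mul_eq_zero] at this
        exact this.resolve_left hc0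
      intro v hv
      have := hrow v hv w₀
      rw [hc0, zero_mul, mul_eq_zero] at this
      exact this.resolve_left hw₀
    let g : LinearMap.ker α →ₗ[k] k := ((LinearMap.applyₗ a).comp M).comp (LinearMap.ker α).subtype
    have h1 := LinearMap.finrank_range_add_finrank_ker g
    have h2 := Submodule.finrank_le (LinearMap.range g)
    rw [Module.finrank_self] at h2
    obtain ⟨u, hu, hu0⟩ := (LinearMap.ker g).exists_mem_ne_zero_of_ne_bot fun e => by
      rw [e, finrank_bot] at h1
      omega
    refine hu0 (Subtype.ext (hMinj u u.2 (LinearMap.ext fun v => ?_)))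
    have h3 := hzero u u.2 (v - α v • a) (by simp [ha])
    have h4 : M (u : V) a = 0 := hu
    simpa [h4] using h3
  have hform : ∀ T ∈ U, ∀ u, T u = α u • T a := fun T hT u => by
    have := hvan T hT (u - α u • a) (by simp [ha])
    rwa [map_sub, map_smul, sub_eq_zero] at this
  let ψ : U →ₗ[k] W :=
    { toFun := fun T => ⟨(T : Tri k V) a, h.slice _ T.2 a⟩
      map_add' := fun _ _ => rfl
      map_smul' := fun _ _ => rfl }
  have hinj : Function.Injective ψ := by
    refine (injective_iff_map_eq_zero _).mpr ?_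
    rintro ⟨T, hT⟩ hz
    have h0 : T a = 0 := congrArg Subtype.val hz
    refine Subtype.ext (LinearMap.ext fun u => ?_)
    show T u = 0
    rw [hform T hT u, h0, smul_zero]
  have hdim : finrank k U = finrank k W := le_antisymm (LinearMap.finrank_le_finrank_of_injective hinj)
    (h.finrank_W.le.trans h.dimU)
  obtain ⟨⟨T, hT⟩, hTa⟩ := (LinearMap.injective_iff_surjective_of_finrank_eq_finrank hdim).mp hinj ⟨_, hp⟩
  have hTa' : T a = α.smulRight p := congrArg Subtype.val hTa
  obtain ⟨w, hw⟩ := exists_eq_one (show p ≠ 0 from hpq.ne_zero 0)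
  have hsl := h.slice' T hT w
  have hval : ∀ u v, rs T w u v = α u * α v := fun u v => by
    rw [rs_apply, hform T hT u, hTa']
    simp [hw]
  have := LinearMap.congr_fun (LinearMap.congr_fun (h.symm _ hsl fun u v => by rw [hval, hval, mul_comm]) a) a
  rw [hval, ha] at this
  simp at this

/-- The cyclic monomial case in coordinates. -/
theorem Data.no_coords (h : Data W U) (b : Basis (Fin 3) k V)
    (h1 : ((b.coord 0).smulRight (b.coord 1) : Bil k V) ∈ W)
    (h2 : ((b.coord 1).smulRight (b.coord 2) : Bil k V) ∈ W) : False := by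
  classical
  -- coordinates
  let E : Fin 3 → Fin 3 → Bil k V := fun i j => (b.coord i).smulRight (b.coord j)
  have hE : ∀ i j x y, E i j (b x) (b y) = (if x = i then 1 else 0) * (if y = j then 1 else 0) := by
    intro i j x y
    show b.coord i (b x) * b.coord j (b y) = _
    simp [Finsupp.single_apply]
  have hE01 : E 0 1 ∈ W := h1
  have hE12 : E 1 2 ∈ W := h2
  set A : Submodule k (Bil k V) := Submodule.span k {E 0 1, E 1 2} with hA
  have hAW : A ≤ W := Submodule.span_le.mpr (by simp [Set.insert_subset_iff, hE01, hE12])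
  have hA2 : finrank k A ≤ 2 := by
    refine (finrank_span_le_card ({E 0 1, E 1 2} : Set (Bil k V))).trans ?_
    simp
    exact Finset.card_le_two
  obtain ⟨M₀, hM₀, hMA⟩ := SetLike.exists_of_lt
    (lt_of_le_of_ne hAW fun e => by have := h.finrank_W; rw [← e] at this; omega : A < W)
  set M := M₀ - M₀ (b 0) (b 1) • E 0 1 - M₀ (b 1) (b 2) • E 1 2 with hMdef
  have hM : M ∈ W := W.sub_mem (W.sub_mem hM₀ (W.smul_mem _ hE01)) (W.smul_mem _ hE12)
  have hM01 : M (b 0) (b 1) = 0 := by simp [hMdef, hE]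
  have hM12 : M (b 1) (b 2) = 0 := by simp [hMdef, hE]
  have hspan : ∀ N ∈ W, ∃ u v w : k, N = u • E 0 1 + v • E 1 2 + w • M := by
    intro N hN
    have hMA' : M ∉ A := fun hh => hMA (by
      have e : M₀ = M + M₀ (b 0) (b 1) • E 0 1 + M₀ (b 1) (b 2) • E 1 2 := by rw [hMdef]; abel
      rw [e]
      exact A.add_mem (A.add_mem hh (A.smul_mem _ (Submodule.subset_span (by simp))))
        (A.smul_mem _ (Submodule.subset_span (by simp))))
    have hindE : LinearIndependent k ![E 0 1, E 1 2, M] := by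
      rw [Fintype.linearIndependent_iff]
      intro g hg
      simp [Fin.sum_univ_three] at hg
      have h01 := LinearMap.congr_fun (LinearMap.congr_fun hg (b 0)) (b 1)
      have h12 := LinearMap.congr_fun (LinearMap.congr_fun hg (b 1)) (b 2)
      simp [hE, hM01, hM12] at h01 h12
      have h2 : g 2 = 0 := by
        by_contra hh
        apply hMA'
        rw [h01, h12, zero_smul, zero_smul, zero_add, zero_add, smul_eq_zero] at hg
        rw [hg.resolve_left hh]
        exact zero_mem _
      intro i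
      fin_cases i <;> assumption
    have hle : Submodule.span k (Set.range ![E 0 1, E 1 2, M]) ≤ W := Submodule.span_le.mpr (by
      rintro _ ⟨i, rfl⟩
      fin_cases i <;> assumption)
    have heq := Submodule.eq_of_le_of_finrank_le hle (by rw [h.finrank_W, finrank_span_eq_card hindE]; simp)
    rw [← heq, Submodule.mem_span_range_iff_exists_fun] at hN
    obtain ⟨g, rfl⟩ := hN
    exact ⟨g 0, g 1, g 2, by simp [Fin.sum_univ_three]⟩
  set Mij : Fin 3 → Fin 3 → k := fun i j => M (b i) (b j) with hMij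
  -- the rows and the columns of the third member are not zero
  have hrow2 : ∃ j, Mij 2 j ≠ 0 := by
    by_contra hh
    push Not at hh
    refine b.ne_zero 2 (h.left (b 2) fun N hN => b.ext fun j => ?_)
    obtain ⟨u, v, w, rfl⟩ := hspan N hN
    simp [hE]
    exact Or.inr (hh j)
  have hcol0 : ∃ i, Mij i 0 ≠ 0 := by
    by_contra hh
    push Not at hh
    refine b.ne_zero 0 (h.right (b 0) fun N hN => b.ext fun i => ?_)
    obtain ⟨u, v, w, rfl⟩ := hspan N hN
    simp [hE]
    exact Or.inr (hh i)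
  -- the last row of the slices
  have key : ∀ T ∈ U, ∃ z : Fin 3 → k, (∀ i, i ≠ 0 → i ≠ 1 → ∀ j l, T (b i) (b j) (b l) = z l * Mij i j) ∧
      (∀ j l, j ≠ 1 → T (b 0) (b j) (b l) = z l * Mij 0 j) ∧
      (∀ j l, j ≠ 2 → T (b 1) (b j) (b l) = z l * Mij 1 j) := by
    intro T hT
    choose u v w hw using fun l => hspan _ (h.slice' T hT (b l))
    have he : ∀ i j l, T (b i) (b j) (b l) = u l * ((if i = 0 then 1 else 0) * (if j = 1 then 1 else 0)) +
        v l * ((if i = 1 then 1 else 0) * (if j = 2 then 1 else 0)) + w l * Mij i j := by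
      intro i j l
      have := LinearMap.congr_fun (LinearMap.congr_fun (hw l) (b i)) (b j)
      simpa [hE] using this
    refine ⟨w, fun i hi hi' j l => ?_, fun j l hj => ?_, fun j l hj => ?_⟩ <;> rw [he] <;> simp [*]
  choose! z hz2 hz0 hz1 using key
  have hzlin : ∀ T ∈ U, ∀ j l, T (b 2) (b j) (b l) = z T l * Mij 2 j :=
    fun T hT j l => hz2 T hT 2 (by decide) (by decide) j l
  obtain ⟨j₀, hj₀⟩ := hrow2
  have hzeq : ∀ T ∈ U, ∀ l, z T l = T (b 2) (b j₀) (b l) / Mij 2 j₀ := fun T hT l => by
    rw [hzlin T hT, mul_div_assoc, div_self hj₀, mul_one]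
  -- the slices at the first place
  have hsl : ∀ T ∈ U, ∀ i, ∃ u v w : k, ∀ j l, T (b i) (b j) (b l) =
      u * ((if j = 0 then 1 else 0) * (if l = 1 then 1 else 0)) +
      v * ((if j = 1 then 1 else 0) * (if l = 2 then 1 else 0)) + w * Mij j l := by
    intro T hT i
    obtain ⟨u, v, w, hw⟩ := hspan _ (h.slice T hT (b i))
    exact ⟨u, v, w, fun j l => by
      have := LinearMap.congr_fun (LinearMap.congr_fun hw (b j)) (b l)
      simpa [hE] using this⟩
  have hz : ∀ T ∈ U, z T 0 = 0 ∧ (Mij 2 0 ≠ 0 → z T 2 = 0) ∧ (Mij 2 1 ≠ 0 → z T 1 = 0) ∧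
      (Mij 2 2 ≠ 0 → z T 1 = 0 ∧ z T 2 = 0) ∧ (Mij 2 0 = 0 → Mij 2 1 = 0 → z T = 0) := by
    intro T hT
    obtain ⟨u, v, w, hw⟩ := hsl T hT 2
    have he := fun j l => (hzlin T hT j l).symm.trans (hw j l)
    -- the symmetric square
    have hq : Mij 2 2 ≠ 0 → z T = 0 := by
      intro hq
      have hzq : ∀ l, z T l = w * Mij 2 l / Mij 2 2 := fun l => by
        have := he 2 l
        simp at this
        rw [eq_div_iff hq, this]
      have hsym : ∀ j l, T (b 2) (b j) (b l) = T (b 2) (b l) (b j) := fun j l => by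
        rw [hzlin T hT, hzlin T hT, hzq, hzq]; ring
      have h0 : T (b 2) = 0 := by
        refine h.symm _ (h.slice T hT _) ?_
        have : T (b 2) = (T (b 2)).flip := b.ext fun j => b.ext fun l => hsym j l
        intro x y
        conv_lhs => rw [this]
        rfl
      funext l
      have := hzlin T hT 2 l
      rw [h0] at this
      simpa [hq] using this.symm
    by_cases hq2 : Mij 2 2 = 0
    · have hw0 : w = 0 := by
        have h0 := he 2 j₀
        simp [hq2] at h0
        exact h0.resolve_right hj₀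
      subst hw0
      have hq01 : Mij 2 0 ≠ 0 ∨ Mij 2 1 ≠ 0 := by
        by_contra hh
        push Not at hh
        fin_cases j₀
        · exact hj₀ hh.1
        · exact hj₀ hh.2
        · exact hj₀ hq2
      have a00 := he 0 0
      have a02 := he 0 2
      have a10 := he 1 0
      have a11 := he 1 1
      simp at a00 a02 a10 a11
      have z0 : z T 0 = 0 := hq01.elim (fun e => a00.resolve_right e) fun e => a10.resolve_right e
      exact ⟨z0, fun e => a02.resolve_right e, fun e => a11.resolve_right e, fun e => absurd hq2 e,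
        fun e0 e1 => absurd hq01 (by simp [e0, e1])⟩
    · have hz := hq hq2
      rw [hz]
      exact ⟨rfl, fun _ => rfl, fun _ => rfl, fun _ => ⟨rfl, rfl⟩, fun _ _ => rfl⟩
  -- a form with no last row
  have hdimlt : finrank k (Fin 2 → k) < finrank k U := by have := h.dimU; simp; omega
  let sel : Fin 3 := if Mij 2 0 ≠ 0 then 1 else 2
  let ψ : U →ₗ[k] (Fin 2 → k) :=
    { toFun := fun T => ![(T : Tri k V) (b 2) (b j₀) (b sel), (T : Tri k V) (b 0) (b 1) (b 2)]
      map_add' := fun _ _ => by ext i; fin_cases i <;> simp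
      map_smul' := fun _ _ => by ext i; fin_cases i <;> simp }
  obtain ⟨⟨T, hT⟩, hTk, hT0⟩ :=
    (LinearMap.ker ψ).exists_mem_ne_zero_of_ne_bot (LinearMap.ker_ne_bot_of_finrank_lt hdimlt)
  have hψ : ψ ⟨T, hT⟩ = 0 := hTk
  have hψ0 : T (b 2) (b j₀) (b sel) = 0 := congrFun hψ 0
  have hψ1 : T (b 0) (b 1) (b 2) = 0 := congrFun hψ 1
  have hzT : z T = 0 := by
    have hs : z T sel = 0 := by rw [hzeq T hT, hψ0, zero_div]
    obtain ⟨a0, a2, a1, a12, a3⟩ := hz T hT
    by_cases q0 : Mij 2 0 = 0
    · by_cases q1 : Mij 2 1 = 0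
      · exact a3 q0 q1
      · funext l; fin_cases l
        · exact a0
        · exact a1 q1
        · simpa [sel, q0] using hs
    · funext l; fin_cases l
      · exact a0
      · simpa [sel, q0] using hs
      · exact a2 q0
  have hMrows : ∀ i, i ≠ 2 → ∀ j, Mij i j = 0 := by
    -- the only other possible entries
    have hzero : ∀ i j l, ¬ (i = 1 ∧ j = 2) → T (b i) (b j) (b l) = 0 := by
      intro i j l hij
      fin_cases i
      · by_cases hj : j = 1
        · subst hj
          obtain ⟨u, v, w, hw⟩ := hsl T hT 0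
          have h2j := fun l => (hz0 T hT 2 l (by decide)).symm.trans (hw 2 l)
          have hw0 : w = 0 := by
            have := h2j j₀
            simp [hzT] at this
            exact this.resolve_right hj₀
          subst hw0
          have h12 := hw 1 2
          simp at h12
          rw [hψ1] at h12
          show T (b 0) (b 1) (b l) = 0
          rw [hw 1 l, ← h12]
          simp
        · show T (b 0) (b j) (b l) = 0
          rw [hz0 T hT j l hj, hzT]; simp
      · show T (b 1) (b j) (b l) = 0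
        rw [hz1 T hT j l fun hj => hij ⟨rfl, hj⟩, hzT]; simp
      · show T (b 2) (b j) (b l) = 0
        rw [hzlin T hT j l, hzT]; simp
    obtain ⟨u, v, w, hw⟩ := hsl T hT 1
    have hu : u = 0 := by
      have := hw 0 1
      rw [hzero 1 0 1 (by simp)] at this
      simpa [hM01, Mij] using this.symm
    have hv : v = 0 := by
      have := hw 1 2
      rw [hzero 1 1 2 (by simp)] at this
      simpa [hM12, Mij] using this.symm
    subst hu hv
    have hw0 : w ≠ 0 := fun e => hT0 (Subtype.ext (b.ext fun i => b.ext fun j => b.ext fun l => by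
      by_cases hij : i = 1 ∧ j = 2
      · obtain ⟨rfl, rfl⟩ := hij
        simpa [e] using hw 2 l
      · exact hzero i j l hij))
    intro i hi j
    have := hw i j
    rw [hzero 1 i j (fun hh => hi hh.2)] at this
    simpa [hw0] using this.symm
  have hq0 : Mij 2 0 ≠ 0 := by
    obtain ⟨i, hi⟩ := hcol0
    by_cases h2i : i = 2
    · exact h2i ▸ hi
    · exact absurd (hMrows i h2i 0) hi
  -- the remaining forms
  have hsupp : ∀ T ∈ U, ∀ i j l, T (b i) (b j) (b l) ≠ 0 →
      (i = 0 ∧ j = 1) ∨ (i = 1 ∧ j = 2) ∨ i = 2 := by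
    intro T hT i j l hne
    fin_cases i
    · left; refine ⟨rfl, by_contra fun hj => hne ?_⟩
      show T (b 0) (b j) (b l) = 0
      rw [hz0 T hT j l hj, hMrows 0 (by decide), mul_zero]
    · right; left; refine ⟨rfl, by_contra fun hj => hne ?_⟩
      show T (b 1) (b j) (b l) = 0
      rw [hz1 T hT j l hj, hMrows 1 (by decide), mul_zero]
    · right; right; rfl
  have hM2 : Mij 2 1 = 0 ∧ Mij 2 2 = 0 := by
    by_contra hh
    have hz0' : ∀ T ∈ U, z T = 0 := by
      intro T hT
      obtain ⟨a0, a2, a1, a12, -⟩ := hz T hT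
      rcases not_and_or.mp hh with hh | hh <;> funext l <;> fin_cases l
      · exact a0
      · exact a1 hh
      · exact a2 hq0
      · exact a0
      · exact (a12 hh).1
      · exact (a12 hh).2
    let χ : U →ₗ[k] (Fin 2 → k) :=
      { toFun := fun T => ![(T : Tri k V) (b 0) (b 1) (b 2), (T : Tri k V) (b 1) (b 2) (b 0)]
        map_add' := fun _ _ => by ext i; fin_cases i <;> simp
        map_smul' := fun _ _ => by ext i; fin_cases i <;> simp }
    obtain ⟨⟨S, hS⟩, hSk, hS0⟩ :=
      (LinearMap.ker χ).exists_mem_ne_zero_of_ne_bot (LinearMap.ker_ne_bot_of_finrank_lt hdimlt)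
    have hχ : χ ⟨S, hS⟩ = 0 := hSk
    refine hS0 (Subtype.ext (b.ext fun i => b.ext fun j => b.ext fun l => by_contra fun hne => ?_))
    rcases hsupp S hS i j l hne with ⟨rfl, rfl⟩ | ⟨rfl, rfl⟩ | rfl
    · obtain ⟨u, v, w, hw⟩ := hsl S hS 0
      refine hne ?_
      have h12 : S (b 0) (b 1) (b 2) = 0 := congrFun hχ 0
      rw [hw 1 2, hMrows 1 (by decide)] at h12
      simp at h12
      show S (b 0) (b 1) (b l) = 0
      rw [hw 1 l, h12, hMrows 1 (by decide)]
      simp
    · obtain ⟨u, v, w, hw⟩ := hsl S hS 1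
      refine hne ?_
      have h20 : S (b 1) (b 2) (b 0) = 0 := congrFun hχ 1
      rw [hw 2 0] at h20
      simp [hq0] at h20
      show S (b 1) (b 2) (b l) = 0
      rw [hw 2 l, h20]
      simp
    · exact hne (by
        show S (b 2) (b j) (b l) = 0
        rw [hzlin S hS, hz0' S hS]; simp)
  have hM2' : ∀ l, ¬ l = 0 → Mij 2 l = 0 := by
    intro l hl
    fin_cases l
    · exact absurd rfl hl
    · exact hM2.1
    · exact hM2.2
  -- now the three monomials
  have hpt : ∀ T ∈ U, ∀ i j l, T (b i) (b j) (b l) ≠ 0 →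
      (i = 0 ∧ j = 1 ∧ l = 2) ∨ (i = 1 ∧ j = 2 ∧ l = 0) ∨ (i = 2 ∧ j = 0 ∧ l = 1) := by
    intro T hT i j l hne
    rcases hsupp T hT i j l hne with ⟨rfl, rfl⟩ | ⟨rfl, rfl⟩ | rfl
    · left; refine ⟨rfl, rfl, by_contra fun hl => hne ?_⟩
      obtain ⟨u, v, w, hw⟩ := hsl T hT 0
      rw [hw 1 l, hMrows 1 (by decide)]
      simp [hl]
    · right; left; refine ⟨rfl, rfl, by_contra fun hl => hne ?_⟩
      obtain ⟨u, v, w, hw⟩ := hsl T hT 1
      rw [hw 2 l, hM2' l hl]
      simp
    · right; right
      obtain ⟨a0, a2, -⟩ := hz T hT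
      rw [hzlin T hT] at hne
      obtain ⟨hzl, hjm⟩ := mul_ne_zero_iff.mp hne
      have := a2 hq0
      refine ⟨rfl, by_contra fun hj => hjm (hM2' j hj), ?_⟩
      fin_cases l
      · exact absurd a0 hzl
      · rfl
      · exact absurd this hzl
  let θ : U →ₗ[k] (Fin 3 → k) :=
    { toFun := fun T => ![(T : Tri k V) (b 0) (b 1) (b 2), (T : Tri k V) (b 1) (b 2) (b 0),
        (T : Tri k V) (b 2) (b 0) (b 1)]
      map_add' := fun _ _ => by ext i; fin_cases i <;> simp
      map_smul' := fun _ _ => by ext i; fin_cases i <;> simp }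
  have hθ : Function.Injective θ := by
    refine (injective_iff_map_eq_zero _).mpr ?_
    rintro ⟨T, hT⟩ hz'
    have hz'' : θ ⟨T, hT⟩ = 0 := hz'
    refine Subtype.ext (b.ext fun i => b.ext fun j => b.ext fun l => by_contra fun hne => ?_)
    rcases hpt T hT i j l hne with ⟨rfl, rfl, rfl⟩ | ⟨rfl, rfl, rfl⟩ | ⟨rfl, rfl, rfl⟩
    · exact hne (congrFun hz'' 0)
    · exact hne (congrFun hz'' 1)
    · exact hne (congrFun hz'' 2)
  have hdimθ : finrank k U = finrank k (Fin 3 → k) :=
    le_antisymm (LinearMap.finrank_le_finrank_of_injective hθ) (by simpa using h.dimU)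
  obtain ⟨⟨S, hS⟩, hSone⟩ :=
    (LinearMap.injective_iff_surjective_of_finrank_eq_finrank hdimθ).mp hθ fun _ => (1 : k)
  have hS0 : S = 0 := by
    refine h.cyclic S hS ?_
    have hrot : ∀ i j l, S (b i) (b j) (b l) = S (b j) (b l) (b i) := by
      intro i j l
      have e0 : S (b 0) (b 1) (b 2) = 1 := congrFun hSone 0
      have e1 : S (b 1) (b 2) (b 0) = 1 := congrFun hSone 1
      have e2 : S (b 2) (b 0) (b 1) = 1 := congrFun hSone 2
      by_cases hh : S (b i) (b j) (b l) = 0
      · by_cases hh' : S (b j) (b l) (b i) = 0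
        · rw [hh, hh']
        · rcases hpt S hS j l i hh' with ⟨rfl, rfl, rfl⟩ | ⟨rfl, rfl, rfl⟩ | ⟨rfl, rfl, rfl⟩
          · exact absurd (hh.symm.trans e2) zero_ne_one
          · exact absurd (hh.symm.trans e0) zero_ne_one
          · exact absurd (hh.symm.trans e1) zero_ne_one
      · rcases hpt S hS i j l hh with ⟨rfl, rfl, rfl⟩ | ⟨rfl, rfl, rfl⟩ | ⟨rfl, rfl, rfl⟩
        · exact e0.trans e1.symm
        · exact e1.trans e2.symm
        · exact e2.trans e0.symm
    let S' : Tri k V := (rs S)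
    have hS' : S = S' := b.ext fun i => b.ext fun j => b.ext fun l => by
      rw [rs_apply]
      exact hrot i j l
    intro u v w
    calc S u v w = S' u v w := by rw [← hS']
      _ = S v w u := rfl
  have : S (b 0) (b 1) (b 2) = 1 := congrFun hSone 0
  rw [hS0] at this
  simp at this

/-- The cyclic monomial case. -/
theorem Data.no_triple (h : Data W U) {α μ β : Dual k V} (hα : α ≠ 0) (hμ : μ ≠ 0) (hβ : β ≠ 0)
    (h1 : (α.smulRight μ : Bil k V) ∈ W) (h2 : (μ.smulRight β : Bil k V) ∈ W) : False := by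
  classical
  have hsymm0 : ∀ {N : Bil k V}, N ∈ W → (∀ u v, N u v = N v u) → ∀ u v, N u v = 0 := fun hN hs u v => by
    rw [h.symm _ hN hs]; rfl
  obtain ⟨a, ha⟩ := exists_eq_one hα
  obtain ⟨m, hm⟩ := exists_eq_one hμ
  have hnsq : ∀ {φ : Dual k V} {c : k} (x : V), φ x = 1 → (φ.smulRight (c • φ) : Bil k V) ∈ W → c = 0 := by
    intro φ c x hx hN
    have := hsymm0 hN (fun u v => by simp; ring) x x
    simpa [hx] using this
  have hαμ : LinearIndependent k ![α, μ] := by
    rw [LinearIndependent.pair_iff' hα]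
    intro c hc
    have := hnsq a ha (c := c) (by rw [hc]; exact h1)
    rw [this, zero_smul] at hc
    exact hμ hc.symm
  have hind : LinearIndependent k ![α, μ, β] := by
    by_contra hdep
    have hb : β ∈ Submodule.span k (Set.range ![α, μ]) := by
      by_contra hb
      have h3 := linearIndependent_finSnoc.mpr ⟨hαμ, hb⟩
      refine hdep ?_
      have e : (Fin.snoc ![α, μ] β : Fin 3 → Dual k V) = ![α, μ, β] := by
        ext i
        fin_cases i <;> rfl
      exact e ▸ h3
    rw [Matrix.range_cons_cons_empty, Submodule.mem_span_pair] at hb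
    obtain ⟨c, e, hce⟩ := hb
    -- a symmetric combination
    have hN := W.add_mem h2 (W.smul_mem c h1)
    have hz := hsymm0 hN (fun u v => by simp [← hce]; ring)
    have hc : ∀ u, c * α u = c * α m * μ u := fun u => by
      have := hz u m
      simp [← hce, hm] at this
      have h' := hz m m
      simp [← hce, hm] at h'
      linear_combination this - μ u * h'
    have hc0 : c = 0 := by
      refine (LinearIndependent.pair_iff.mp hαμ c (-(c * α m)) (LinearMap.ext fun u => ?_)).1
      simp
      linear_combination hc u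
    rw [hc0, zero_smul, zero_add] at hce
    have he : e = 0 := hnsq m hm (by rw [hce]; exact h2)
    rw [he, zero_smul] at hce
    exact hβ hce.symm
  -- the dual basis
  let φ : V →ₗ[k] (Fin 3 → k) := LinearMap.pi ![α, μ, β]
  have hφ : Function.Injective φ := by
    refine (injective_iff_map_eq_zero _).mpr fun v hv => ?_
    have htop := hind.span_eq_top_of_card_eq_finrank' (by
      rw [Subspace.dual_finrank_eq, h.dimV]; rfl)
    refine (Module.forall_dual_apply_eq_zero_iff k v).mp fun f => ?_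
    have hf : f ∈ Submodule.span k (Set.range ![α, μ, β]) := htop ▸ Submodule.mem_top
    induction hf using Submodule.span_induction with
    | mem x hx => obtain ⟨i, rfl⟩ := hx; exact congrFun hv i
    | zero => simp
    | add x y _ _ hx hy => simp [hx, hy]
    | smul c x _ hx => simp [hx]
  let b : Basis (Fin 3) k V :=
    Basis.ofEquivFun (LinearEquiv.ofInjectiveOfFinrankEq φ hφ (by rw [h.dimV]; simp))
  have hb : ∀ i j, (![α, μ, β] : Fin 3 → Dual k V) i (b j) = if i = j then 1 else 0 := by
    intro i j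
    have h1 : φ (b j) = Pi.single j 1 := by
      have e : b.equivFun (b j) = φ (b j) := by
        simp only [b, Basis.equivFun_ofEquivFun]
        rfl
      rw [← e]
      ext i
      rw [Basis.equivFun_self, Pi.single_apply]
      simp [eq_comm]
    have := congrFun h1 i
    simp only [φ, LinearMap.pi_apply] at this
    rw [this, Pi.single_apply]
  have hb' : ∀ i, b.coord i = ![α, μ, β] i := fun i => b.ext fun j => by
    rw [hb, b.coord_apply, b.repr_self, Finsupp.single_apply]
    simp [eq_comm]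
  exact h.no_coords b (by simpa [hb'] using h1) (by simpa [hb'] using h2)

/-- No nonzero member of `U` has slices at the first place spanning a line. -/
theorem Data.rank_one (h : Data W U) {T : Tri k V} (hT : T ∈ U) (hT0 : T ≠ 0)
    (hr : finrank k (LinearMap.range T) ≤ 1) : False := by
  classical
  obtain ⟨⟨M, hMr⟩, hMspan⟩ := finrank_le_one_iff.mp hr
  choose c hc using fun u => hMspan ⟨T u, ⟨u, rfl⟩⟩
  have hc' : ∀ u, T u = c u • M := fun u => (congrArg Subtype.val (hc u)).symm
  have hM0 : M ≠ 0 := fun e => hT0 (LinearMap.ext fun u => by rw [hc', e, smul_zero]; rfl)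
  obtain ⟨v₀, w₀, hvw⟩ : ∃ v w, M v w ≠ 0 := by
    by_contra hh
    push Not at hh
    exact hM0 (LinearMap.ext fun v => LinearMap.ext (hh v))
  set α : Dual k V := (M v₀ w₀)⁻¹ • ((LinearMap.applyₗ w₀).comp ((LinearMap.applyₗ v₀).comp T)) with hαdef
  have hT' : ∀ u, T u = α u • M := fun u => by
    rw [hc']
    congr 1
    simp [hαdef, hc']
    field_simp
  have hα : α ≠ 0 := fun e => hT0 (LinearMap.ext fun u => by rw [hT', e]; simp)
  have hsl : ∀ w, (α.smulRight (M.flip w) : Bil k V) ∈ W := fun w => by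
    have : rs T w = α.smulRight (M.flip w) := by ext u v; simp [hT']
    exact this ▸ h.slice' T hT w
  by_cases hM2 : finrank k (LinearMap.range M.flip) ≤ 1
  · obtain ⟨⟨μ, hμr⟩, hμspan⟩ := finrank_le_one_iff.mp hM2
    choose d hd using fun w => hμspan ⟨M.flip w, ⟨w, rfl⟩⟩
    have hd' : ∀ w, M.flip w = d w • μ := fun w => (congrArg Subtype.val (hd w)).symm
    have hd'' : ∀ w, ∀ v, M v w = d w * μ v := fun w v => LinearMap.congr_fun (hd' w) v
    have hμv : μ v₀ ≠ 0 := fun e => hvw (by rw [hd'', e, mul_zero])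
    set β : Dual k V := (μ v₀)⁻¹ • M v₀ with hβdef
    have hMμβ : M = μ.smulRight β := by
      ext v w
      simp [hβdef, hd'']
      field_simp
    have hβ : β ≠ 0 := fun e => hM0 (by rw [hMμβ, e]; ext; simp)
    have hμ : μ ≠ 0 := fun e => hμv (by rw [e]; rfl)
    obtain ⟨a, ha⟩ := exists_eq_one hα
    obtain ⟨w, hw⟩ := exists_eq_one hβ
    refine h.no_triple hα hμ hβ ?_ ?_
    · have := hsl w
      rwa [show M.flip w = μ by ext v; simp [hMμβ, hw]] at this
    · have := h.slice T hT a
      rwa [hT', ha, one_smul, hMμβ] at this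
  · obtain ⟨w₁, hw₁⟩ : ∃ w₁, M.flip w₁ ≠ 0 := ⟨w₀, fun e => hvw (LinearMap.congr_fun e v₀)⟩
    obtain ⟨_, ⟨w₂, rfl⟩, hw₂⟩ := SetLike.exists_of_lt (lt_of_le_of_ne
      ((Submodule.span_singleton_le_iff_mem _ _).mpr ⟨w₁, rfl⟩)
      (fun e => hM2 (by rw [← e, finrank_span_singleton hw₁])) :
      Submodule.span k {M.flip w₁} < LinearMap.range M.flip)
    refine h.two_row hα ((LinearIndependent.pair_iff' hw₁).mpr fun a e => hw₂ ?_) (hsl w₁) (hsl w₂)
    exact e ▸ Submodule.smul_mem _ a (Submodule.mem_span_singleton_self _)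

theorem Data.rank_one' (h : Data W U) {T : Tri k V} (hT : T ∈ U) (hT0 : T ≠ 0)
    (hr : finrank k (LinearMap.range (rs T)) ≤ 1) : False := by
  refine h.flip.rank_one ⟨T, hT, rfl⟩ (fun e => hT0 (rev_injective (by rw [e, map_zero]))) ?_
  have : LinearMap.range (rev T) =
      (LinearMap.range (rs T)).map (LinearMap.lflip : Bil k V ≃ₗ[k] Bil k V).toLinearMap :=
    LinearMap.range_comp _ _
  rw [this, LinearEquiv.finrank_map_eq]
  exact hr

/-- Evaluation of the members of `W` at a first argument. -/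
def rowMap (W : Submodule k (Bil k V)) (u : V) : W →ₗ[k] Dual k V :=
  (LinearMap.applyₗ u).comp W.subtype

theorem Data.row_ker (h : Data W U) {ξ : V} (hξ : ξ ≠ 0) :
    finrank k (LinearMap.ker (rowMap W ξ)) ≤ 2 := by
  by_contra hh
  refine hξ (h.left ξ fun M hM => ?_)
  have htop : LinearMap.ker (rowMap W ξ) = ⊤ :=
    Submodule.eq_top_of_finrank_eq (le_antisymm (Submodule.finrank_le _) (by rw [h.finrank_W]; omega))
  exact LinearMap.mem_ker.mp (htop ▸ Submodule.mem_top : (⟨M, hM⟩ : W) ∈ LinearMap.ker (rowMap W ξ))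

/-- A form killed at `ξ` confines the rows at `ξ` to a line. -/
theorem Data.row (h : Data W U) {T : Tri k V} (hT : T ∈ U) (hT0 : T ≠ 0) {ξ : V} (hξ : T ξ = 0) :
    finrank k (LinearMap.range (rowMap W ξ)) ≤ 1 := by
  have h1 := LinearMap.finrank_range_add_finrank_ker (rowMap W ξ)
  rw [h.finrank_W] at h1
  suffices h2 : 2 ≤ finrank k (LinearMap.ker (rowMap W ξ)) by omega
  have hle : LinearMap.range (rs T) ≤ (LinearMap.ker (rowMap W ξ)).map W.subtype := by
    rintro _ ⟨w, rfl⟩
    refine ⟨⟨rs T w, h.slice' T hT w⟩, ?_, rfl⟩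
    show rs T w ξ = 0
    ext v
    simp [hξ]
  have h3 := (Submodule.finrank_mono hle).trans (Submodule.finrank_map_le _ _)
  by_contra h4
  exact h.rank_one' hT hT0 (by omega)

theorem Data.slice_row (h : Data W U) {T : Tri k V} (hT : T ∈ U) {ξ : V} {p : Dual k V} {v₀ : V}
    (hp : ∀ M ∈ W, M ξ = M ξ v₀ • p) : ∃ z : Dual k V, T ξ = p.smulRight z :=
  ⟨T ξ v₀, LinearMap.ext fun v => LinearMap.ext fun w => by
    have := LinearMap.congr_fun (hp _ (h.slice' T hT w)) v
    simpa [mul_comm] using this⟩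

theorem Data.eval_le (h : Data W U) {ξ : V} (hξ : finrank k (LinearMap.range (rowMap W ξ)) ≤ 1) :
    finrank k (LinearMap.range ((LinearMap.applyₗ ξ).comp U.subtype)) ≤ 1 := by
  classical
  by_contra hcon
  obtain ⟨⟨p, hpr⟩, hpspan⟩ := finrank_le_one_iff.mp hξ
  have hp' : ∀ M ∈ W, ∃ c : k, M ξ = c • p := fun M hM => by
    obtain ⟨c, hc⟩ := hpspan ⟨M ξ, ⟨⟨M, hM⟩, rfl⟩⟩
    exact ⟨c, (congrArg Subtype.val hc).symm⟩
  by_cases hp0 : p = 0
  · apply hcon
    have : LinearMap.range ((LinearMap.applyₗ ξ).comp U.subtype) = ⊥ := by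
      rw [Submodule.eq_bot_iff]
      rintro _ ⟨⟨T, hT⟩, rfl⟩
      refine LinearMap.ext fun v => LinearMap.ext fun w => ?_
      obtain ⟨c, hc⟩ := hp' _ (h.slice' T hT w)
      simpa [hp0] using LinearMap.congr_fun hc v
    rw [this, finrank_bot]
    exact zero_le_one
  obtain ⟨v₀, hv₀⟩ := exists_eq_one hp0
  have hp : ∀ M ∈ W, M ξ = M ξ v₀ • p := fun M hM => by
    obtain ⟨c, hc⟩ := hp' M hM
    rw [hc]
    simp [hv₀]
  -- two independent values give two rows
  obtain ⟨x₁, hx₁, hx₁0⟩ := (LinearMap.range ((LinearMap.applyₗ ξ).comp U.subtype)).exists_mem_ne_zero_of_ne_bot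
    (fun e => hcon (by rw [e, finrank_bot]; exact zero_le_one))
  obtain ⟨x₂, hx₂, hx₂'⟩ := SetLike.exists_of_lt (lt_of_le_of_ne
    ((Submodule.span_singleton_le_iff_mem _ _).mpr hx₁)
    (fun e => hcon (by rw [← e, finrank_span_singleton hx₁0])) :
    Submodule.span k {x₁} < LinearMap.range ((LinearMap.applyₗ ξ).comp U.subtype))
  obtain ⟨⟨T₁, hT₁⟩, rfl⟩ := hx₁
  obtain ⟨⟨T₂, hT₂⟩, rfl⟩ := hx₂
  obtain ⟨z₁, hz₁⟩ := h.slice_row hT₁ hp
  obtain ⟨z₂, hz₂⟩ := h.slice_row hT₂ hp
  simp only [LinearMap.comp_apply, Submodule.subtype_apply, LinearMap.applyₗ_apply_apply] at hx₁0 hx₂'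
  have hz₁0 : z₁ ≠ 0 := fun e => hx₁0 (by rw [hz₁, e]; ext; simp)
  refine h.two_row hp0 ((LinearIndependent.pair_iff' hz₁0).mpr fun a e => hx₂' ?_)
    (hz₁ ▸ h.slice T₁ hT₁ ξ) (hz₂ ▸ h.slice T₂ hT₂ ξ)
  rw [show T₂ ξ = a • T₁ ξ by rw [hz₁, hz₂, ← e]; ext; simp; ring]
  exact Submodule.smul_mem _ a (Submodule.mem_span_singleton_self _)

theorem Data.two_rows (h : Data W U) {ξ ξ' : V} (hind : LinearIndependent k ![ξ, ξ'])
    (h1 : finrank k (LinearMap.range (rowMap W ξ)) ≤ 1) (h2 : finrank k (LinearMap.range (rowMap W ξ')) ≤ 1) :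
    False := by
  let f := (LinearMap.applyₗ ξ).comp U.subtype
  let g := (LinearMap.applyₗ ξ').comp U.subtype
  have hf := LinearMap.finrank_range_add_finrank_ker f
  have hg := LinearMap.finrank_range_add_finrank_ker g
  have e1 : finrank k (LinearMap.range f) ≤ 1 := h.eval_le h1
  have e2 : finrank k (LinearMap.range g) ≤ 1 := h.eval_le h2
  have hd := h.dimU
  have hsup := Submodule.finrank_sup_add_finrank_inf_eq (LinearMap.ker f) (LinearMap.ker g)
  have hle := Submodule.finrank_le (LinearMap.ker f ⊔ LinearMap.ker g)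
  obtain ⟨⟨T, hT⟩, ⟨hTf, hTg⟩, hT0⟩ := (LinearMap.ker f ⊓ LinearMap.ker g).exists_mem_ne_zero_of_ne_bot
    (fun e => by rw [e, finrank_bot] at hsup; omega)
  refine h.rank_one hT (fun e => hT0 (Subtype.ext e)) ?_
  have hker : Submodule.span k (Set.range ![ξ, ξ']) ≤ LinearMap.ker T := Submodule.span_le.mpr (by
    rintro _ ⟨i, rfl⟩
    fin_cases i
    · exact hTf
    · exact hTg)
  have h3 := Submodule.finrank_mono hker
  rw [finrank_span_eq_card hind, Fintype.card_fin] at h3
  have h4 := LinearMap.finrank_range_add_finrank_ker T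
  rw [h.dimV] at h4
  omega

theorem Data.two_rows' (h : Data W U) {T T' : Tri k V} (hT : T ∈ U) (hT0 : T ≠ 0) (hT' : T' ∈ U)
    (hT'0 : T' ≠ 0) {η η' : V} (hind : LinearIndependent k ![η, η']) (h1 : rs T η = 0) (h2 : rs T' η' = 0) :
    False := by
  refine h.flip.two_rows hind (h.flip.row ⟨T, hT, rfl⟩ (fun e => hT0 (rev_injective (by rw [e, map_zero]))) ?_)
    (h.flip.row ⟨T', hT', rfl⟩ (fun e => hT'0 (rev_injective (by rw [e, map_zero]))) ?_)
  · show (rs T η).flip = 0
    rw [h1]; rfl
  · show (rs T' η').flip = 0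
    rw [h2]; rfl

set_option maxHeartbeats 3000000 in
/-- The theorem. -/
theorem Data.false [IsAlgClosed k] (h : Data W U) : False := by
  haveI : Nontrivial V := Module.nontrivial_of_finrank_pos (R := k) (by rw [h.dimV]; omega)
  have hU := h.dimU
  have hpick : ∀ X : Submodule k U, 2 ≤ finrank k X → ∃ T₁ T₂ : U, T₁ ∈ X ∧ T₂ ∈ X ∧ LinearIndependent k ![T₁, T₂] := by
    intro X hX
    obtain ⟨x, hx, hx0⟩ := X.exists_mem_ne_zero_of_ne_bot fun e => by rw [e, finrank_bot] at hX; omega
    obtain ⟨y, hy, hy'⟩ := SetLike.exists_of_lt (lt_of_le_of_ne ((Submodule.span_singleton_le_iff_mem _ _).mpr hx)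
      (fun e => by rw [← e, finrank_span_singleton hx0] at hX; omega) : Submodule.span k {x} < X)
    exact ⟨x, y, hx, hy, (LinearIndependent.pair_iff' hx0).mpr fun a e =>
      hy' (e ▸ Submodule.smul_mem _ a (Submodule.mem_span_singleton_self _))⟩
  have hcomb : ∀ (T₁ T₂ : U) (a b : k), LinearIndependent k ![T₁, T₂] → (a ≠ 0 ∨ b ≠ 0) →
      ((a • T₁ + b • T₂ : U) : Tri k V) ≠ 0 := fun T₁ T₂ a b hi hab e => by
    obtain ⟨ha, hb⟩ := LinearIndependent.pair_iff.mp hi a b (Subtype.ext e)
    rcases hab with hh | hh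
    · exact hh ha
    · exact hh hb
  -- one singular member
  obtain ⟨T₁, T₂, -, -, hi⟩ := hpick ⊤ (by rw [finrank_top]; omega)
  let cod : ∀ T : U, V →ₗ[k] W := fun T => LinearMap.codRestrict W (T : Tri k V) (h.slice _ T.2)
  obtain ⟨a, b, hab, ξ, hξ0, hξ⟩ := exists_not_injective (cod T₁) (cod T₂) (by rw [h.finrank_W, h.dimV])
  have hTξ : ((a • T₁ + b • T₂ : U) : Tri k V) ξ = 0 := congrArg Subtype.val hξ
  have hrow := h.row (a • T₁ + b • T₂).2 (hcomb _ _ a b hi hab) hTξ
  -- a pencil killed at the same place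
  have hX := LinearMap.finrank_range_add_finrank_ker ((LinearMap.applyₗ ξ).comp U.subtype)
  have := h.eval_le hrow
  obtain ⟨S₁, S₂, hS₁, hS₂, hj⟩ := hpick (LinearMap.ker ((LinearMap.applyₗ ξ).comp U.subtype)) (by omega)
  have hkill : ∀ S : U, S ∈ LinearMap.ker ((LinearMap.applyₗ ξ).comp U.subtype) →
      ∃ η : V, η ≠ 0 ∧ rs (S : Tri k V) η = 0 := by
    intro S hS
    have hmem : ∀ w, (⟨rs (S : Tri k V) w, h.slice' _ S.2 w⟩ : W) ∈ LinearMap.ker (rowMap W ξ) := fun w => by
      show rs (S : Tri k V) w ξ = 0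
      have hS' : (S : Tri k V) ξ = 0 := hS
      ext v
      simp [hS']
    let f : V →ₗ[k] (LinearMap.ker (rowMap W ξ)).map W.subtype :=
      LinearMap.codRestrict _ (rs (S : Tri k V)) fun w => ⟨_, hmem w, rfl⟩
    have hlt : finrank k ((LinearMap.ker (rowMap W ξ)).map W.subtype) < finrank k V := by
      rw [h.dimV]
      exact Nat.lt_succ_of_le ((Submodule.finrank_map_le _ _).trans (h.row_ker hξ0))
    obtain ⟨η, hη, hη0⟩ := (LinearMap.ker f).exists_mem_ne_zero_of_ne_bot fun e => by
      have h1 := LinearMap.finrank_range_add_finrank_ker f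
      rw [e, finrank_bot] at h1
      have h2 := Submodule.finrank_le (LinearMap.range f)
      omega
    exact ⟨η, hη0, congrArg Subtype.val (LinearMap.mem_ker.mp hη)⟩
  obtain ⟨η₁, hη₁0, hη₁⟩ := hkill S₁ hS₁
  obtain ⟨η₂, hη₂0, hη₂⟩ := hkill S₂ hS₂
  have hS₁0 : (S₁ : Tri k V) ≠ 0 := fun e => hj.ne_zero 0 (Subtype.ext e)
  have hS₂0 : (S₂ : Tri k V) ≠ 0 := fun e => hj.ne_zero 1 (Subtype.ext e)
  by_cases hdep : ∃ c : k, c • η₁ = η₂
  swap
  · push Not at hdep
    exact h.two_rows' S₁.2 hS₁0 S₂.2 hS₂0 ((LinearIndependent.pair_iff' hη₁0).mpr hdep) hη₁ hη₂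
  obtain ⟨c, hc⟩ := hdep
  have hη₂' : rs (S₂ : Tri k V) η₁ = 0 := by
    rw [← hc, map_smul, smul_eq_zero] at hη₂
    exact hη₂.resolve_left fun e => hη₂0 (by rw [← hc, e, zero_smul])
  -- both are maps of a plane into a plane
  obtain ⟨K, hK⟩ := Submodule.exists_isCompl (Submodule.span k {ξ})
  have hKdim : finrank k K = 2 := by
    have := Submodule.finrank_add_eq_of_isCompl hK
    rw [finrank_span_singleton hξ0, h.dimV] at this
    omega
  let col : W →ₗ[k] Dual k V :=
    (LinearMap.applyₗ η₁).comp ((LinearMap.lflip : Bil k V ≃ₗ[k] Bil k V).toLinearMap.comp W.subtype)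
  have hQ : finrank k (LinearMap.ker col) ≤ 2 := by
    by_contra hh
    refine hη₁0 (h.right η₁ fun M hM => ?_)
    have htop : LinearMap.ker col = ⊤ :=
      Submodule.eq_top_of_finrank_eq (le_antisymm (Submodule.finrank_le _) (by rw [h.finrank_W]; omega))
    exact LinearMap.mem_ker.mp (htop ▸ Submodule.mem_top : (⟨M, hM⟩ : W) ∈ LinearMap.ker col)
  let cK : ∀ S : U, rs (S : Tri k V) η₁ = 0 → (K →ₗ[k] (LinearMap.ker col).map W.subtype) := fun S hS =>
    LinearMap.codRestrict _ ((S : Tri k V).comp K.subtype) fun u => by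
      refine ⟨⟨_, h.slice _ S.2 (u : V)⟩, ?_, rfl⟩
      show ((S : Tri k V) (u : V)).flip η₁ = 0
      ext v
      exact LinearMap.congr_fun (LinearMap.congr_fun hS (u : V)) v
  haveI : Nontrivial K := Module.nontrivial_of_finrank_pos (R := k) (by omega)
  obtain ⟨a', b', hab', u, hu0, hu⟩ := exists_not_injective (cK S₁ hη₁) (cK S₂ hη₂')
    ((Submodule.finrank_map_le _ _).trans (hQ.trans hKdim.ge))
  refine h.rank_one (a' • S₁ + b' • S₂).2 (hcomb _ _ a' b' hj hab') ?_
  have hker : Submodule.span k (Set.range ![ξ, (u : V)]) ≤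
      LinearMap.ker ((a' • S₁ + b' • S₂ : U) : Tri k V) := Submodule.span_le.mpr (by
    rintro _ ⟨i, rfl⟩
    fin_cases i
    · have e1 : (S₁ : Tri k V) ξ = 0 := hS₁
      have e2 : (S₂ : Tri k V) ξ = 0 := hS₂
      simp [e1, e2]
    · exact congrArg Subtype.val hu)
  have hind : LinearIndependent k ![ξ, (u : V)] := by
    refine (LinearIndependent.pair_iff' hξ0).mpr fun t ht => hu0 (Subtype.ext ?_)
    have : (u : V) ∈ Submodule.span k {ξ} ⊓ K :=
      ⟨ht ▸ Submodule.smul_mem _ t (Submodule.mem_span_singleton_self _), u.2⟩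
    rwa [hK.inf_eq_bot, Submodule.mem_bot] at this
  have h3 := Submodule.finrank_mono hker
  rw [finrank_span_eq_card hind, Fintype.card_fin] at h3
  have h4 := LinearMap.finrank_range_add_finrank_ker ((a' • S₁ + b' • S₂ : U) : Tri k V)
  rw [h.dimV] at h4
  omega

end Cfsg.Agent.Char.FiveForms
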