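import Cfsg.Agent.Lib.Char.FiveForms.Bound

/-!
# Two generators allow at most four layers
-/

set_option autoImplicit false
set_option linter.unusedSectionVars false
set_option maxHeartbeats 1600000

namespace Cfsg.Agent.Char.FiveForms

open Module
open LocalSymm (Corner)

variable {k R : Type*} [Field k] [Ring R] [Algebra k R] {f : R} {A N : Submodule k R} {τ : R →ₗ[k] k} {L : ℕ}
  {C : Submodule k R}

/-- `a ↦ x a - a x`. -/
def adL (k : Type*) {R : Type*} [Field k] [Ring R] [Algebra k R] (x : R) : R →ₗ[k] R :=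
  LinearMap.mulLeft k x - LinearMap.mulRight k x

@[simp] theorem adL_apply (x a : R) : adL k x a = x * a - a * x := rfl

theorem comm_sq_mem_D {n a : R} (hn : n ∈ N ^ 2) (ha : a ∈ N ^ 2) : n * a - a * n ∈ D N 3 := by
  rw [pow_two] at hn
  refine Submodule.mul_induction_on hn (fun v hv t ht => ?_) fun x y hx hy => ?_
  · rw [show v * t * a - a * (v * t) = (v * (t * a) - t * a * v) + (t * (a * v) - a * v * t) by noncomm_ring]
    exact add_mem (comm_mem_D hv (pow_mul_mem (mem_one_pow ht) ha rfl))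
      (comm_mem_D ht (pow_mul_mem ha (mem_one_pow hv) rfl))
  · rw [show (x + y) * a - a * (x + y) = (x * a - a * x) + (y * a - a * y) by noncomm_ring]
    exact add_mem hx hy

theorem D_two_le {x y : R} (hN : N ≤ Submodule.span k {x, y} ⊔ N ^ 2) :
    D N 2 ≤ (N ^ 2).map (adL k x) ⊔ (N ^ 2).map (adL k y) ⊔ D N 3 := by
  refine Submodule.span_le.mpr ?_
  rintro _ ⟨u, hu, a, ha, rfl⟩
  obtain ⟨p, hp, n, hn, rfl⟩ := Submodule.mem_sup.mp (hN hu)
  obtain ⟨c, d, rfl⟩ := Submodule.mem_span_pair.mp hp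
  rw [show (c • x + d • y + n) * a - a * (c • x + d • y + n) =
    adL k x (c • a) + adL k y (d • a) + (n * a - a * n) by
      simp only [adL_apply, add_mul, mul_add, smul_mul_assoc, mul_smul_comm]; abel]
  exact add_mem (add_mem (Submodule.mem_sup_left (Submodule.mem_sup_left ⟨_, Submodule.smul_mem _ c ha, rfl⟩))
    (Submodule.mem_sup_left (Submodule.mem_sup_right ⟨_, Submodule.smul_mem _ d ha, rfl⟩)))
    (Submodule.mem_sup_right (comm_sq_mem_D hn ha))

variable [FiniteDimensional k R]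

theorem W₂_map_le (g : Graded f A N τ L C) (hL : 3 ≤ L) {m : ℕ} (ψ : R →ₗ[k] (Fin m → k))
    (h : ∀ w ∈ N ^ (L - 2), ψ w = 0 → ∀ a ∈ N ^ 2, τ (a * w) = 0) : finrank k (W₂ N C τ L) ≤ m := by
  have h1 : finrank k (W₂ N C τ L) ≤ finrank k ((N ^ (L - 2)).map ψ) :=
    finrank_map_le_map _ _ _ fun w hw hz => LinearMap.ext fun u => LinearMap.ext fun v =>
      h w hw hz _ (pow_mul_mem (mem_one_pow (g.le u.2)) (mem_one_pow (g.le v.2)) rfl)
  have h2 := Submodule.finrank_le ((N ^ (L - 2)).map ψ)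
  rw [Module.finrank_fin_fun] at h2
  omega

/-- Five layers are impossible with two components. -/
theorem two_gen_plane [IsAlgClosed k] (g : Graded f A N τ L C) (hC : finrank k C = 2) (hL : 5 ≤ L)
    (htop : C ⊔ N ^ 2 = N) {q : R} (hq : N ^ 2 ≤ Submodule.span k {q} ⊔ (W0 N ⊔ N ^ 3))
    (h3' : N ^ 3 ≤ W0 N ⊔ N ^ 4) (h4' : N ^ 4 ≤ W0 N ⊔ N ^ 5) : False := by
  classical
  have hN2 : ∀ (b : Basis (Fin 2) k C), N ≤ Submodule.span k {((b 0 : C) : R), ((b 1 : C) : R)} ⊔ N ^ 2 := by
    intro b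
    conv_lhs => rw [← htop]
    refine sup_le_sup_right (fun c hc => ?_) _
    have := congrArg Subtype.val (b.sum_repr ⟨c, hc⟩)
    rw [Fin.sum_univ_two] at this
    simp only [Submodule.coe_add, Submodule.coe_smul] at this
    exact Submodule.mem_span_pair.mpr ⟨_, _, this⟩
  have hW0 : ∀ (b : Basis (Fin 2) k C),
      W0 N ≤ Submodule.span k {((b 0 : C) : R) * (b 1 : C) - ((b 1 : C) : R) * (b 0 : C)} ⊔ D N 2 := fun b =>
    W0_le_of_gen (g.le (b 0).2) (g.le (b 1).2) (hN2 b)
  let b₀ := Module.finBasisOfFinrankEq k C hC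
  set c₀ : R := ((b₀ 0 : C) : R) * (b₀ 1 : C) - ((b₀ 1 : C) : R) * (b₀ 0 : C) with hc₀
  have hspan : N ^ 2 ≤ Submodule.span k {q} ⊔ (Submodule.span k {c₀} ⊔ N ^ 3) :=
    hq.trans (sup_le_sup_left (sup_le ((hW0 b₀).trans (sup_le_sup_left (D_le 2) _)) le_sup_right) _)
  have hkill : ∀ w ∈ N ^ (L - 2), τ (q * w) = 0 → τ (c₀ * w) = 0 → ∀ a ∈ N ^ 2, τ (a * w) = 0 := by
    intro w hw e1 e2 a ha
    obtain ⟨_, hu, _, hv, rfl⟩ := Submodule.mem_sup.mp (hspan ha)
    obtain ⟨s, rfl⟩ := Submodule.mem_span_singleton.mp hu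
    obtain ⟨_, hu', n, hn, rfl⟩ := Submodule.mem_sup.mp hv
    obtain ⟨s', rfl⟩ := Submodule.mem_span_singleton.mp hu'
    rw [add_mul, add_mul, map_add, map_add, smul_mul_assoc, smul_mul_assoc, map_smul, map_smul, e1, e2,
      g.eq_zero_of_top hn hw (by omega), map_zero, smul_zero, smul_zero, add_zero, add_zero]
  let ψq : R →ₗ[k] k := τ.comp (LinearMap.mulLeft k q)
  let ψc : R →ₗ[k] k := τ.comp (LinearMap.mulLeft k c₀)
  have hW2 : finrank k (W₂ N C τ L) = 2 := by
    refine le_antisymm (W₂_map_le g (by omega) (LinearMap.pi ![ψq, ψc]) fun w hw hz => ?_)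
      ((middle g hC le_rfl (by omega) (n := 2) le_rfl (by omega)).trans (finrank_S_two g (by omega)))
    exact hkill w hw (congrFun hz 0) (congrFun hz 1)
  have hns : ∃ M ∈ W₂ N C τ L, ∃ u v, M u v ≠ M v u := by
    by_contra hh
    push Not at hh
    have := W₂_map_le g (m := 1) (by omega) (LinearMap.pi ![ψq]) fun w hw hz => hkill w hw (congrFun hz 0) ?_
    · omega
    · have := hh _ ⟨w, hw, rfl⟩ (b₀ 0) (b₀ 1)
      simp only [Φ₂_apply] at this
      rw [hc₀, sub_mul, map_sub, this, sub_self]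
  have h3 : N ^ 3 ≤ D N 2 ⊔ N ^ 4 := by
    intro a ha
    obtain ⟨d, hd, r, hr, rfl⟩ := Submodule.mem_sup.mp (h3' ha)
    obtain ⟨_, hs, e, he, rfl⟩ := Submodule.mem_sup.mp (hW0 b₀ hd)
    obtain ⟨t, rfl⟩ := Submodule.mem_span_singleton.mp hs
    rw [← hc₀] at ha ⊢
    have hs3 : t • c₀ ∈ N ^ 3 := by
      have h1 : (t • c₀ + e + r) - e - r ∈ N ^ 3 :=
        sub_mem (sub_mem ha (D_le 2 he)) (pow_anti g.corner (by omega) (by omega : 3 ≤ 4) hr)
      rwa [show t • c₀ + e + r - e - r = t • c₀ by abel] at h1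
    have ht : t = 0 := by
      obtain ⟨_, ⟨w, hw, rfl⟩, u, v, huv⟩ := hns
      by_contra ht
      apply huv
      have h0 : τ (c₀ * w) = 0 := by
        have h5 := g.eq_zero_of_top hs3 hw (by omega)
        rw [smul_mul_assoc, smul_eq_zero] at h5
        rw [h5.resolve_left ht, map_zero]
      have hflip : Φ₂ C τ w = (Φ₂ C τ w).flip := by
        rw [hc₀, sub_mul, map_sub, sub_eq_zero] at h0
        exact ext_two b₀ (ext_two b₀ rfl h0) (ext_two b₀ h0.symm rfl)
      conv_lhs => rw [hflip]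
      rfl
    rw [ht, zero_smul, zero_add]
    exact add_mem (Submodule.mem_sup_left he) (Submodule.mem_sup_right hr)
  have hU3 : 2 ≤ finrank k (U₃ N C τ L) :=
    (middle g hC le_rfl (by omega) (n := 3) (by omega) (by omega)).trans (finrank_S_three g (by omega))
  obtain ⟨b, hb⟩ := Data2.exists_basis (W := W₂ N C τ L) (U := U₃ N C τ L)
    { dimV := hC
      dimW := hW2
      nsymm := hns
      left := W₂_left g (by omega)
      right := W₂_right g (by omega)
      slice := U₃_slice g (by omega)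
      slice' := U₃_slice' g (by omega)
      cyclic := U₃_cyclic g (by omega) h3
      dimU := hU3 }
  set x : R := ((b 0 : C) : R) with hxdef
  set y : R := ((b 1 : C) : R) with hydef
  have hx : x ∈ N := g.le (b 0).2
  have hy : y ∈ N := g.le (b 1).2
  have hxx : ∀ w ∈ N ^ (L - 2), τ (x * x * w) = 0 := fun w hw => (hb _ ⟨w, hw, rfl⟩).1
  have hyy : ∀ w ∈ N ^ (L - 2), τ (y * y * w) = 0 := fun w hw => (hb _ ⟨w, hw, rfl⟩).2
  have hxx2 : x * x ∈ N ^ 2 := pow_mul_mem (mem_one_pow hx) (mem_one_pow hx) rfl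
  have hyy2 : y * y ∈ N ^ 2 := pow_mul_mem (mem_one_pow hy) (mem_one_pow hy) rfl
  -- degree two
  obtain ⟨w₁, hw₁, e11, e12⟩ : ∃ w ∈ N ^ (L - 2), τ (x * y * w) = 1 ∧ τ (y * x * w) = 0 := by
    let φ : Bil k C →ₗ[k] (Fin 2 → k) :=
      { toFun := fun M => ![M (b 0) (b 1), M (b 1) (b 0)]
        map_add' := fun M N => by ext i; fin_cases i <;> simp
        map_smul' := fun c M => by ext i; fin_cases i <;> simp }
    have hinj : Function.Injective (φ.comp (W₂ N C τ L).subtype) := by
      refine (injective_iff_map_eq_zero _).mpr ?_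
      rintro ⟨M, hM⟩ hz
      exact Subtype.ext (ext_two b (ext_two b (hb M hM).1 (congrFun hz 0))
        (ext_two b (congrFun hz 1) (hb M hM).2))
    have hdim : finrank k (W₂ N C τ L) = finrank k (Fin 2 → k) := by simp [hW2]
    obtain ⟨⟨_, w, hw, rfl⟩, e⟩ :=
      (LinearMap.injective_iff_surjective_of_finrank_eq_finrank hdim).mp hinj ![1, 0]
    exact ⟨w, hw, congrFun e 0, congrFun e 1⟩
  obtain ⟨w₂, hw₂, e21, e22⟩ : ∃ w ∈ N ^ (L - 2), τ (x * y * w) = 0 ∧ τ (y * x * w) = 1 := by
    let φ : Bil k C →ₗ[k] (Fin 2 → k) :=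
      { toFun := fun M => ![M (b 0) (b 1), M (b 1) (b 0)]
        map_add' := fun M N => by ext i; fin_cases i <;> simp
        map_smul' := fun c M => by ext i; fin_cases i <;> simp }
    have hinj : Function.Injective (φ.comp (W₂ N C τ L).subtype) := by
      refine (injective_iff_map_eq_zero _).mpr ?_
      rintro ⟨M, hM⟩ hz
      exact Subtype.ext (ext_two b (ext_two b (hb M hM).1 (congrFun hz 0))
        (ext_two b (congrFun hz 1) (hb M hM).2))
    have hdim : finrank k (W₂ N C τ L) = finrank k (Fin 2 → k) := by simp [hW2]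
    obtain ⟨⟨_, w, hw, rfl⟩, e⟩ :=
      (LinearMap.injective_iff_surjective_of_finrank_eq_finrank hdim).mp hinj ![0, 1]
    exact ⟨w, hw, congrFun e 0, congrFun e 1⟩
  have hxy2 : x * y ∈ N ^ 2 := pow_mul_mem (mem_one_pow hx) (mem_one_pow hy) rfl
  have hyx2 : y * x ∈ N ^ 2 := pow_mul_mem (mem_one_pow hy) (mem_one_pow hx) rfl
  have hz1 : ∀ n ∈ N ^ 3, τ (n * w₁) = 0 ∧ τ (n * w₂) = 0 := fun n hn => by
    rw [g.eq_zero_of_top hn hw₁ (by omega), g.eq_zero_of_top hn hw₂ (by omega), map_zero]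
    exact ⟨rfl, rfl⟩
  have hN2span : N ^ 2 ≤ Submodule.span k {x * y, y * x} ⊔ N ^ 3 := by
    set X := Submodule.span k {x * y, y * x} ⊔ N ^ 3 with hX
    have hXle : X ≤ N ^ 2 := sup_le (Submodule.span_le.mpr (by simp [Set.insert_subset_iff, hxy2, hyx2]))
      (pow_anti g.corner (by omega) (by omega))
    refine (Submodule.eq_of_le_of_finrank_le hXle ?_).ge
    let η : X →ₗ[k] (Fin 2 → k) :=
      (LinearMap.pi ![τ.comp (LinearMap.mulRight k w₁), τ.comp (LinearMap.mulRight k w₂)]).comp X.subtype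
    have hsurj : ∀ v, ∃ a, η a = v := by
      intro v
      refine ⟨⟨v 0 • (x * y) + v 1 • (y * x), Submodule.mem_sup_left
        (Submodule.mem_span_pair.mpr ⟨_, _, rfl⟩)⟩, ?_⟩
      ext i
      fin_cases i <;> simp [η, add_mul, e11, e12, e21, e22]
    have h1 := LinearMap.finrank_range_add_finrank_ker η
    rw [LinearMap.range_eq_top.mpr hsurj, _root_.finrank_top, Module.finrank_fin_fun] at h1
    have h2 : finrank k ↥(N ^ 3) ≤ finrank k (LinearMap.ker η) := by
      refine LinearMap.finrank_le_finrank_of_injective (f := LinearMap.codRestrict (LinearMap.ker η)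
        (Submodule.inclusion (le_sup_right : N ^ 3 ≤ X)) fun n => ?_) ?_
      · ext i
        fin_cases i
        · exact (hz1 n n.2).1
        · exact (hz1 n n.2).2
      · intro a c e
        exact Submodule.inclusion_injective _ (congrArg Subtype.val e)
    have h3a := Submodule.finrank_mono hspan
    have h3b := Submodule.finrank_add_le_finrank_add_finrank (Submodule.span k {q}) (Submodule.span k {c₀} ⊔ N ^ 3)
    have h3c := Submodule.finrank_add_le_finrank_add_finrank (Submodule.span k {c₀}) (N ^ 3)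
    have h3d := finrank_span_le_card ({q} : Set R) (R := k)
    have h3e := finrank_span_le_card ({c₀} : Set R) (R := k)
    simp at h3d h3e
    omega
  have hsq : x * x ∈ N ^ 3 ∧ y * y ∈ N ^ 3 := by
    have key : ∀ s ∈ N ^ 2, τ (s * w₁) = 0 → τ (s * w₂) = 0 → s ∈ N ^ 3 := by
      intro s hs h1 h2
      obtain ⟨p, hp, n, hn, rfl⟩ := Submodule.mem_sup.mp (hN2span hs)
      obtain ⟨a, c, rfl⟩ := Submodule.mem_span_pair.mp hp
      simp [add_mul, e11, e12, e21, e22, (hz1 n hn).1, (hz1 n hn).2] at h1 h2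
      rw [h1, h2, zero_smul, zero_smul, zero_add, zero_add]
      exact hn
    exact ⟨key _ hxx2 (hxx w₁ hw₁) (hxx w₂ hw₂), key _ hyy2 (hyy w₁ hw₁) (hyy w₂ hw₂)⟩
  -- degree three
  have hT : ∀ T ∈ U₃ N C τ L, ∀ i j : Fin 2, T (b i) (b i) (b j) = 0 ∧ T (b i) (b j) (b j) = 0 := by
    intro T hT i j
    have h1 := hb _ (U₃_slice' g (by omega) T hT (b j))
    have h2 := hb _ (U₃_slice g (by omega) T hT (b i))
    constructor
    · fin_cases i
      · exact h1.1
      · exact h1.2
    · fin_cases j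
      · exact h2.1
      · exact h2.2
  have hthree : ∀ v : Fin 2 → k, ∃ w ∈ N ^ (L - 3), τ (x * y * x * w) = v 0 ∧ τ (y * x * y * w) = v 1 ∧
      τ (x * x * y * w) = 0 ∧ τ (y * x * x * w) = 0 ∧ τ (y * y * x * w) = 0 ∧ τ (x * y * y * w) = 0 := by
    intro v
    let φ : U₃ N C τ L →ₗ[k] (Fin 2 → k) :=
      { toFun := fun T => ![(T : Tri k C) (b 0) (b 1) (b 0), (T : Tri k C) (b 1) (b 0) (b 1)]
        map_add' := fun _ _ => by ext i; fin_cases i <;> simp
        map_smul' := fun _ _ => by ext i; fin_cases i <;> simp }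
    have hinj : Function.Injective φ := by
      refine (injective_iff_map_eq_zero _).mpr ?_
      rintro ⟨T, hT'⟩ hz
      have q0 : T (b 0) (b 1) (b 0) = 0 := congrFun hz 0
      have q1 : T (b 1) (b 0) (b 1) = 0 := congrFun hz 1
      refine Subtype.ext ?_
      show T = 0
      refine b.ext fun i => b.ext fun j => b.ext fun l => ?_
      simp only [LinearMap.zero_apply]
      fin_cases i <;> fin_cases j <;> fin_cases l
      · exact (hT T hT' 0 0).1
      · exact (hT T hT' 0 1).1
      · exact q0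
      · exact (hT T hT' 0 1).2
      · exact (hT T hT' 1 0).2
      · exact q1
      · exact (hT T hT' 1 0).1
      · exact (hT T hT' 1 1).1
    have hdim : finrank k (U₃ N C τ L) = finrank k (Fin 2 → k) :=
      le_antisymm (LinearMap.finrank_le_finrank_of_injective hinj) (by simpa using hU3)
    haveI : FiniteDimensional k (U₃ N C τ L) := Module.Finite.map (N ^ (L - 3)) (Φ₃ C τ)
    obtain ⟨⟨T, hT'⟩, e⟩ := (LinearMap.injective_iff_surjective_of_finrank_eq_finrank hdim).mp hinj v
    obtain ⟨w, hw, rfl⟩ := hT'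
    exact ⟨w, hw, congrFun e 0, congrFun e 1, (hT _ ⟨w, hw, rfl⟩ 0 1).1, (hT _ ⟨w, hw, rfl⟩ 1 0).2,
      (hT _ ⟨w, hw, rfl⟩ 1 0).1, (hT _ ⟨w, hw, rfl⟩ 0 1).2⟩
  -- degree four
  have hpair : ∀ (w : R), w ∈ N ^ (L - 4) → ∀ i j l m : Fin 2, (i = j ∨ j = l ∨ l = m) →
      τ ((b i : R) * b j * b l * b m * w) = 0 := by
    intro w hw i j l m h
    have hm : ∀ t : Fin 2, ((b t : C) : R) ∈ N ^ 1 := fun t => mem_one_pow (g.le (b t).2)
    have hd : ∀ (t : Fin 2) (z : R), z ∈ N ^ (L - 2) → τ ((b t : R) * b t * z) = 0 := by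
      intro t z hz
      fin_cases t
      · exact hxx z hz
      · exact hyy z hz
    rcases h with rfl | rfl | rfl
    · rw [show (b i : R) * b i * b l * b m * w = (b i : R) * b i * (b l * b m * w) by noncomm_ring]
      exact hd _ _ (pow_mul_mem (pow_mul_mem (hm l) (hm m) rfl) hw (by omega))
    · rw [show (b i : R) * b j * b j * b m * w = (b i : R) * ((b j : R) * b j * (b m * w)) by noncomm_ring,
        g.symm, mul_assoc]
      exact hd _ _ (pow_mul_mem (pow_mul_mem (hm m) hw rfl) (hm i) (by omega))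
    · rw [show (b i : R) * b j * b l * b l * w = ((b i : R) * b j) * ((b l : R) * b l * w) by noncomm_ring,
        g.symm, mul_assoc]
      exact hd _ _ (pow_mul_mem hw (pow_mul_mem (hm i) (hm j) rfl) (by omega))
  obtain ⟨w, hw, ew0, ew1⟩ : ∃ w ∈ N ^ (L - 4), τ (x * y * x * y * w) = 1 ∧ τ (y * x * y * x * w) = 1 := by
    let ψ : R →ₗ[k] (Fin 2 → k) :=
      LinearMap.pi ![τ.comp (LinearMap.mulLeft k (x * y * x * y)), τ.comp (LinearMap.mulLeft k (y * x * y * x))]
    have h1 : finrank k (S N τ L 4) ≤ finrank k ((N ^ (L - 4)).map ψ) := by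
      refine finrank_map_le_map _ _ _ fun w hw hz => ?_
      have a0 : τ (x * y * x * y * w) = 0 := congrFun hz 0
      have a1 : τ (y * x * y * x * w) = 0 := congrFun hz 1
      have hall : ∀ i j l m : Fin 2, τ ((b i : R) * b j * b l * b m * w) = 0 := by
        intro i j l m
        by_cases h : i = j ∨ j = l ∨ l = m
        · exact hpair w hw i j l m h
        · fin_cases i <;> fin_cases j <;> fin_cases l <;> fin_cases m <;>
            first
              | exact absurd (by decide) h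
              | exact a0
              | exact a1
      have hη : (Φ₃ C τ).comp ((LinearMap.mulLeft k w).comp C.subtype) = 0 := by
        refine b.ext fun m => b.ext fun i => b.ext fun j => b.ext fun l => ?_
        show τ ((b i : R) * b j * b l * (w * b m)) = 0
        rw [← mul_assoc, g.symm]
        simp only [← mul_assoc]
        exact hall m i j l
      refine right_faithful g (n := 3) (by omega) (m := L - 4) (by omega) (by omega) hw fun η hη' => ?_
      refine θ_three_eq_zero g (by omega) (pow_mul_mem hw (mem_one_pow (g.le hη')) (by omega)) fun u v t => ?_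
      exact LinearMap.congr_fun (LinearMap.congr_fun (LinearMap.congr_fun (LinearMap.congr_fun hη ⟨η, hη'⟩) u) v) t
    have h2 := middle g hC le_rfl (by omega) (n := 4) (by omega) (by omega)
    have h3 : (N ^ (L - 4)).map ψ = ⊤ := Submodule.eq_top_of_finrank_eq (le_antisymm (Submodule.finrank_le _)
      (by rw [Module.finrank_fin_fun]; omega))
    obtain ⟨w, hw, e⟩ := (h3 ▸ Submodule.mem_top : (fun _ => (1 : k)) ∈ (N ^ (L - 4)).map ψ)
    exact ⟨w, hw, congrFun e 0, congrFun e 1⟩
  have hD3 : D N 3 ≤ LinearMap.ker (τ.comp (LinearMap.mulRight k w)) := by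
    refine Submodule.span_le.mpr ?_
    rintro _ ⟨u, hu, a, ha, rfl⟩
    show τ ((u * a - a * u) * w) = 0
    obtain ⟨c, hc, hcl, -⟩ := g.exists_comp hu
    have e1 : τ (u * a * w) = τ (a * (w * c)) := by
      rw [mul_assoc, hcl _ (pow_mul_mem ha hw (by omega)), g.symm, mul_assoc]
    have e2 : τ (a * u * w) = τ (a * (c * w)) := by
      rw [mul_assoc, g.symm, mul_assoc, hcl _ (pow_mul_mem hw ha (by omega)), ← mul_assoc, g.symm]
    rw [sub_mul, map_sub, e1, e2, ← map_sub, ← mul_sub]
    have hlin : (Φ₃ C τ).comp (((LinearMap.mulLeft k w) - (LinearMap.mulRight k w)).comp C.subtype) = 0 := by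
      have hone : ∀ i j l m : Fin 2, τ ((b m : R) * b i * b j * b l * w) = τ ((b i : R) * b j * b l * b m * w) := by
        intro i j l m
        by_cases h : i = j ∨ j = l ∨ l = m
        · have h' : m = i ∨ i = j ∨ j = l := by
            revert h; revert i j l m; decide
          rw [hpair w hw m i j l h', hpair w hw i j l m h]
        · fin_cases i <;> fin_cases j <;> fin_cases l <;> fin_cases m <;>
            first
              | exact absurd (by decide) h
              | exact ew0.trans ew1.symm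
              | exact ew1.trans ew0.symm
      refine b.ext fun m => b.ext fun i => b.ext fun j => b.ext fun l => ?_
      show τ ((b i : R) * b j * b l * (w * b m - b m * w)) = 0
      rw [mul_sub, map_sub, sub_eq_zero, ← mul_assoc, ← mul_assoc, g.symm]
      simp only [← mul_assoc]
      exact hone i j l m
    exact θ_eq_zero.mp (θ_three_eq_zero g (w := w * c - c * w) (by omega)
      (sub_mem (pow_mul_mem hw (mem_one_pow (g.le hc)) (by omega))
        (pow_mul_mem (mem_one_pow (g.le hc)) hw (by omega))) fun u v t =>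
      LinearMap.congr_fun (LinearMap.congr_fun (LinearMap.congr_fun (LinearMap.congr_fun hlin ⟨c, hc⟩) u) v) t) a ha
  have hfour : ∀ e ∈ W0 N, e ∈ N ^ 4 → τ (e * w) = 0 := by
    intro e he he4
    obtain ⟨_, hs, d, hd, rfl⟩ := Submodule.mem_sup.mp (hW0 b he)
    obtain ⟨t, rfl⟩ := Submodule.mem_span_singleton.mp hs
    obtain ⟨_, hh, r, hr, rfl⟩ := Submodule.mem_sup.mp (D_two_le (hN2 b) hd)
    obtain ⟨_, ⟨a, ha, rfl⟩, _, ⟨a', ha', rfl⟩, rfl⟩ := Submodule.mem_sup.mp hh
    rw [← hxdef, ← hydef] at he4 ⊢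
    have h3le : N ^ 4 ≤ N ^ 3 := pow_anti g.corner (by omega) (by omega)
    have ht : t = 0 := by
      have hd3 : adL k x a + adL k y a' + r ∈ N ^ 3 := add_mem (add_mem
        (sub_mem (pow_mul_mem (mem_one_pow hx) ha rfl) (pow_mul_mem ha (mem_one_pow hx) rfl))
        (sub_mem (pow_mul_mem (mem_one_pow hy) ha' rfl) (pow_mul_mem ha' (mem_one_pow hy) rfl)))
        (h3le (D_le 3 hr))
      have h1 := (hz1 _ (sub_mem (h3le he4) hd3)).1
      rw [add_sub_cancel_right, smul_mul_assoc, map_smul, sub_mul, map_sub, e11, e12, sub_zero, smul_eq_mul,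
        mul_one] at h1
      exact h1
    subst ht
    rw [zero_smul, zero_add] at he4 ⊢
    obtain ⟨p, hp, n, hn, rfl⟩ := Submodule.mem_sup.mp (hN2span ha)
    obtain ⟨a₁, a₂, rfl⟩ := Submodule.mem_span_pair.mp hp
    obtain ⟨p', hp', n', hn', rfl⟩ := Submodule.mem_sup.mp (hN2span ha')
    obtain ⟨c₁, c₂, rfl⟩ := Submodule.mem_span_pair.mp hp'
    have heval : ∀ z ∈ N ^ (L - 3), a₁ * (τ (x * x * y * z) - τ (x * y * x * z)) +
        a₂ * (τ (x * y * x * z) - τ (y * x * x * z)) + (c₁ * (τ (y * x * y * z) - τ (x * y * y * z)) +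
          c₂ * (τ (y * y * x * z) - τ (y * x * y * z))) = 0 := by
      intro z hz
      have h0 : τ ((adL k x (a₁ • (x * y) + a₂ • (y * x) + n) + adL k y (c₁ • (x * y) + c₂ • (y * x) + n') + r) * z)
          = 0 := by rw [g.eq_zero_of_top he4 hz (by omega), map_zero]
      have hr0 : τ (r * z) = 0 := by rw [g.eq_zero_of_top (D_le 3 hr) hz (by omega), map_zero]
      have q1 : τ (x * n * z) = 0 := by
        rw [g.eq_zero_of_top (pow_mul_mem (mem_one_pow hx) hn rfl) hz (by omega), map_zero]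
      have q2 : τ (n * x * z) = 0 := by
        rw [g.eq_zero_of_top (pow_mul_mem hn (mem_one_pow hx) rfl) hz (by omega), map_zero]
      have q3 : τ (y * n' * z) = 0 := by
        rw [g.eq_zero_of_top (pow_mul_mem (mem_one_pow hy) hn' rfl) hz (by omega), map_zero]
      have q4 : τ (n' * y * z) = 0 := by
        rw [g.eq_zero_of_top (pow_mul_mem hn' (mem_one_pow hy) rfl) hz (by omega), map_zero]
      simp only [adL_apply, add_mul, sub_mul, mul_add, smul_mul_assoc, mul_smul_comm, map_add, map_sub, map_smul,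
        smul_eq_mul, hr0, q1, q2, q3, q4] at h0
      simp only [← mul_assoc] at h0
      linear_combination h0
    obtain ⟨z₁, hz₁, u0, u1, u2, u3, u4, u5⟩ := hthree ![1, 0]
    obtain ⟨z₂, hz₂, v0, v1, v2, v3, v4, v5⟩ := hthree ![0, 1]
    have ha12 : a₂ = a₁ := by
      have := heval z₁ hz₁
      rw [u0, u1, u2, u3, u4, u5] at this
      simp at this
      linear_combination this
    have hc12 : c₂ = c₁ := by
      have := heval z₂ hz₂
      rw [v0, v1, v2, v3, v4, v5] at this
      simp at this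
      linear_combination -this
    have hD : adL k x (a₁ • (x * y) + a₂ • (y * x) + n) + adL k y (c₁ • (x * y) + c₂ • (y * x) + n') + r ∈ D N 3 := by
      rw [ha12, hc12, show adL k x (a₁ • (x * y) + a₁ • (y * x) + n) = a₁ • ((x * x) * y - y * (x * x)) + (x * n - n * x)
        by simp only [adL_apply, mul_add, add_mul, smul_mul_assoc, mul_smul_comm, smul_sub, mul_assoc]; abel,
        show adL k y (c₁ • (x * y) + c₁ • (y * x) + n') = c₁ • (y * y * x - x * (y * y)) + (y * n' - n' * y)
        by simp only [adL_apply, mul_add, add_mul, smul_mul_assoc, mul_smul_comm, smul_sub, mul_assoc]; abel]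
      exact add_mem (add_mem (add_mem (Submodule.smul_mem _ _ (comm_mem_D' hy hsq.1)) (comm_mem_D hx hn))
        (add_mem (Submodule.smul_mem _ _ (comm_mem_D' hx hsq.2)) (comm_mem_D hy hn'))) hr
    exact hD3 hD
  have hmem : x * y * x * y ∈ N ^ 4 :=
    pow_mul_mem (pow_mul_mem (pow_mul_mem (mem_one_pow hx) (mem_one_pow hy) rfl) (mem_one_pow hx) rfl)
      (mem_one_pow hy) rfl
  obtain ⟨d, hd, r, hr, e⟩ := Submodule.mem_sup.mp (h4' hmem)
  have hd4 : d ∈ N ^ 4 := by
    have h1 : x * y * x * y - r ∈ N ^ 4 := sub_mem hmem (pow_anti g.corner (by omega) (by omega : 4 ≤ 5) hr)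
    rwa [← e, add_sub_cancel_right] at h1
  rw [← e, add_mul, map_add, g.eq_zero_of_top hr hw (by omega), map_zero, add_zero, hfour d hd hd4] at ew0
  exact zero_ne_one ew0

end Cfsg.Agent.Char.FiveForms
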